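import Cfsg.Agent.Lib.AutPSp.Main

/-!
# The automorphisms of `PSp_{2m}` induced by semilinear conformal maps
-/

set_option autoImplicit false

namespace Cfsg.Agent.Lib.AutPSp

open Matrix Cfsg.Agent.Lib.SpBasic
open scoped MatrixGroups

variable {F : Type*} [Field F] {m : ℕ}

/-- The conformal symplectic group. -/
abbrev GS (m : ℕ) (F : Type*) [Field F] := ↥(Cfsg.GSp m F)

lemma gs_spec (G : GS m F) : ∃ c : Fˣ, ∀ u v : Fin m ⊕ Fin m → F, ω (G.1.1 *ᵥ u) (G.1.1 *ᵥ v) = c * ω u v := G.2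

lemma mem_GSp_iff {G : GL (Fin m ⊕ Fin m) F} :
    G ∈ Cfsg.GSp m F ↔ ∃ c : Fˣ, ∀ u v : Fin m ⊕ Fin m → F, ω (G.1 *ᵥ u) (G.1 *ᵥ v) = c * ω u v := Iff.rfl

/-- The multiplier. -/
noncomputable def muF (G : GS m F) : Fˣ := Classical.choose (gs_spec G)

lemma mu_spec (G : GS m F) (u v : Fin m ⊕ Fin m → F) : ω (G.1.1 *ᵥ u) (G.1.1 *ᵥ v) = muF G * ω u v :=
  Classical.choose_spec (gs_spec G) u v

lemma gs_inv_mul (G : GS m F) : (G⁻¹).1.1 * G.1.1 = 1 := by
  rw [← Units.val_mul, ← Subgroup.coe_mul, inv_mul_cancel]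
  rfl

lemma gs_mul_inv (G : GS m F) : G.1.1 * (G⁻¹).1.1 = 1 := by
  rw [← Units.val_mul, ← Subgroup.coe_mul, mul_inv_cancel]
  rfl

lemma mu_unique [NeZero m] (G : GS m F) {c : F} (h : ∀ u v : Fin m ⊕ Fin m → F, ω (G.1.1 *ᵥ u) (G.1.1 *ᵥ v) = c * ω u v) :
    (muF G : F) = c := by
  have h1 := mu_spec G (eR (0 : Fin m)) (eL (0 : Fin m))
  rw [h, ω_eR_eL, mul_one, mul_one] at h1
  exact h1.symm

/-- The multiplier as a homomorphism. -/
noncomputable def mu [NeZero m] : GS m F →* Fˣ :=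
  MonoidHom.mk' muF (by
    intro G H
    apply Units.ext
    apply mu_unique
    intro u v
    change ω ((G.1.1 * H.1.1) *ᵥ u) ((G.1.1 * H.1.1) *ᵥ v) = _
    rw [← mulVec_mulVec, ← mulVec_mulVec, mu_spec, mu_spec, Units.val_mul, mul_assoc])

lemma mu_apply [NeZero m] (G : GS m F) : mu G = muF G := rfl

lemma mu_form [NeZero m] (G : GS m F) (u v : Fin m ⊕ Fin m → F) : ω (G.1.1 *ᵥ u) (G.1.1 *ᵥ v) = mu G * ω u v :=
  mu_spec G u v

lemma ω_inv_inv (G : GS m F) (x y : Fin m ⊕ Fin m → F) :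
    (muF G : F) * ω ((G⁻¹).1.1 *ᵥ x) ((G⁻¹).1.1 *ᵥ y) = ω x y := by
  rw [← mu_spec, mulVec_mulVec, mulVec_mulVec, gs_mul_inv, one_mulVec, one_mulVec]

/-- Conjugation by a conformal element. -/
noncomputable def conjSp (G : GS m F) : Sp (Fin m) F ≃* Sp (Fin m) F where
  toFun s := ⟨G.1.1 * s.1 * (G⁻¹).1.1, by
    rw [mem_symplecticGroup_iff]
    intro x y
    rw [← mulVec_mulVec, ← mulVec_mulVec, ← mulVec_mulVec, ← mulVec_mulVec, mu_spec,
      mem_symplecticGroup_iff.mp s.2, ω_inv_inv]⟩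
  invFun s := ⟨(G⁻¹).1.1 * s.1 * G.1.1, by
    rw [mem_symplecticGroup_iff]
    intro x y
    have h1 : ∀ a b : Fin m ⊕ Fin m → F, ω ((G⁻¹).1.1 *ᵥ (s.1 *ᵥ a)) ((G⁻¹).1.1 *ᵥ (s.1 *ᵥ b)) = ω ((G⁻¹).1.1 *ᵥ a) ((G⁻¹).1.1 *ᵥ b) := by
      intro a b
      have h3 := ω_inv_inv G (s.1 *ᵥ a) (s.1 *ᵥ b)
      rw [mem_symplecticGroup_iff.mp s.2, ← ω_inv_inv G a b] at h3
      exact mul_left_cancel₀ (muF G).ne_zero h3
    rw [← mulVec_mulVec, ← mulVec_mulVec, ← mulVec_mulVec, ← mulVec_mulVec, h1, mulVec_mulVec, mulVec_mulVec, gs_inv_mul,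
      one_mulVec, one_mulVec]⟩
  left_inv s := by
    apply Subtype.ext
    change (G⁻¹).1.1 * (G.1.1 * s.1 * (G⁻¹).1.1) * G.1.1 = s.1
    calc _ = ((G⁻¹).1.1 * G.1.1) * s.1 * ((G⁻¹).1.1 * G.1.1) := by simp only [Matrix.mul_assoc]
      _ = _ := by rw [gs_inv_mul, Matrix.one_mul, Matrix.mul_one]
  right_inv s := by
    apply Subtype.ext
    change G.1.1 * ((G⁻¹).1.1 * s.1 * G.1.1) * (G⁻¹).1.1 = s.1
    calc _ = (G.1.1 * (G⁻¹).1.1) * s.1 * (G.1.1 * (G⁻¹).1.1) := by simp only [Matrix.mul_assoc]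
      _ = _ := by rw [gs_mul_inv, Matrix.one_mul, Matrix.mul_one]
  map_mul' s t := by
    apply Subtype.ext
    change G.1.1 * (s.1 * t.1) * (G⁻¹).1.1 = (G.1.1 * s.1 * (G⁻¹).1.1) * (G.1.1 * t.1 * (G⁻¹).1.1)
    calc _ = G.1.1 * s.1 * 1 * t.1 * (G⁻¹).1.1 := by simp only [Matrix.mul_assoc, Matrix.mul_one]
      _ = _ := by rw [← gs_inv_mul G]; simp only [Matrix.mul_assoc]

lemma conjSp_coe (G : GS m F) (s : Sp (Fin m) F) : (conjSp G s).1 = G.1.1 * s.1 * (G⁻¹).1.1 := rfl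

lemma fm_fm_symm (σ : F ≃+* F) (v : Fin m ⊕ Fin m → F) : fm σ (fm σ.symm v) = v := by
  ext i
  simp [fm]

lemma fm_symm_fm (σ : F ≃+* F) (v : Fin m ⊕ Fin m → F) : fm σ.symm (fm σ v) = v := by
  ext i
  simp [fm]

lemma mem_map_of_mem (σ : F ≃+* F) {s : Matrix (Fin m ⊕ Fin m) (Fin m ⊕ Fin m) F} (hs : s ∈ symplecticGroup (Fin m) F) :
    s.map σ ∈ symplecticGroup (Fin m) F := by
  rw [mem_symplecticGroup_iff]
  intro x y
  have h1 := mem_symplecticGroup_iff.mp hs (fm σ.symm x) (fm σ.symm y)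
  have h2 := congrArg σ h1
  rw [← ω_fm, fm_mulVec, fm_mulVec, ← ω_fm, fm_fm_symm, fm_fm_symm] at h2
  exact h2

/-- Entrywise field automorphism on `Sp`. -/
noncomputable def fieldSp (σ : F ≃+* F) : Sp (Fin m) F ≃* Sp (Fin m) F where
  toFun s := ⟨s.1.map σ, mem_map_of_mem σ s.2⟩
  invFun s := ⟨s.1.map σ.symm, mem_map_of_mem σ.symm s.2⟩
  left_inv s := by
    apply Subtype.ext
    ext i j
    simp
  right_inv s := by
    apply Subtype.ext
    ext i j
    simp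
  map_mul' s t := by
    apply Subtype.ext
    change (s.1 * t.1).map σ = s.1.map σ * t.1.map σ
    rw [Matrix.map_mul]

lemma fieldSp_coe (σ : F ≃+* F) (s : Sp (Fin m) F) : (fieldSp σ s).1 = s.1.map σ := rfl

/-- `s ↦ G σ(s) G⁻¹`. -/
noncomputable def spMap (G : GS m F) (σ : F ≃+* F) : Sp (Fin m) F ≃* Sp (Fin m) F :=
  (fieldSp σ).trans (conjSp G)

lemma spMap_coe (G : GS m F) (σ : F ≃+* F) (s : Sp (Fin m) F) :
    (spMap G σ s).1 = G.1.1 * s.1.map σ * (G⁻¹).1.1 := rfl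

/-- The automorphism of `PSp` induced by `v ↦ G σ(v)`. -/
noncomputable def gsAut (G : GS m F) (σ : F ≃+* F) : Cfsg.PSp m F ≃* Cfsg.PSp m F :=
  QuotientGroup.congr _ _ (spMap G σ) (Subgroup.characteristic_iff_map_eq.mp inferInstance (spMap G σ))

lemma gsAut_mk (G : GS m F) (σ : F ≃+* F) (s : Sp (Fin m) F) :
    gsAut G σ (QuotientGroup.mk s) = QuotientGroup.mk (spMap G σ s) := rfl

lemma sp_ext' {s t : Sp (Fin m) F} (h : s.1 = t.1) : s = t := Subtype.ext h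

/-- Apply a field automorphism to `GS`. -/
noncomputable def glS (σ : F ≃+* F) : GS m F ≃* GS m F where
  toFun G := ⟨Matrix.GeneralLinearGroup.map (σ : F →+* F) G.1, by
    obtain ⟨c, hc⟩ := gs_spec G
    refine ⟨Units.map (σ : F →* F) c, fun u v => ?_⟩
    have h1 := hc (fm σ.symm u) (fm σ.symm v)
    have h2 := congrArg σ h1
    rw [map_mul, ← ω_fm, ← ω_fm, fm_mulVec, fm_mulVec, fm_fm_symm, fm_fm_symm] at h2
    exact h2⟩
  invFun G := ⟨Matrix.GeneralLinearGroup.map (σ.symm : F →+* F) G.1, by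
    obtain ⟨c, hc⟩ := gs_spec G
    refine ⟨Units.map (σ.symm : F →* F) c, fun u v => ?_⟩
    have h1 := hc (fm σ u) (fm σ v)
    have h2 := congrArg σ.symm h1
    rw [map_mul, ← ω_fm, ← ω_fm, fm_mulVec, fm_mulVec, fm_symm_fm, fm_symm_fm] at h2
    exact h2⟩
  left_inv G := by
    apply Subtype.ext
    apply Units.ext
    ext i j
    simp
  right_inv G := by
    apply Subtype.ext
    apply Units.ext
    ext i j
    simp
  map_mul' G H := by
    apply Subtype.ext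
    exact map_mul _ _ _

lemma glS_coe (σ : F ≃+* F) (G : GS m F) : (glS σ G).1.1 = G.1.1.map σ := rfl

lemma gsAut_mul (G H : GS m F) (σ τ : F ≃+* F) :
    gsAut G σ * gsAut H τ = gsAut (G * glS σ H) (τ.trans σ) := by
  apply MulEquiv.ext
  intro x
  obtain ⟨s, rfl⟩ := QuotientGroup.mk_surjective x
  change gsAut G σ (gsAut H τ (QuotientGroup.mk s)) = _
  rw [gsAut_mk, gsAut_mk, gsAut_mk]
  congr 1
  apply sp_ext'
  rw [spMap_coe, spMap_coe, spMap_coe, _root_.mul_inv_rev]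
  have e1 : (glS σ H)⁻¹ = glS σ H⁻¹ := (map_inv _ _).symm
  have e2 : (s.1.map τ).map σ = s.1.map (τ.trans σ) := by
    ext i j
    simp
  have e3 : (H.1.1 * s.1.map τ * (H⁻¹).1.1).map σ = H.1.1.map σ * (s.1.map τ).map σ * (H⁻¹).1.1.map σ := by
    rw [Matrix.map_mul, Matrix.map_mul]
  have e4 : (G * glS σ H).1.1 = G.1.1 * H.1.1.map σ := rfl
  have e5 : (glS σ H⁻¹ * G⁻¹).1.1 = (H⁻¹).1.1.map σ * (G⁻¹).1.1 := rfl
  rw [e3, e2, e1, e4, e5]
  simp only [Matrix.mul_assoc]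

lemma gsAut_one : gsAut (1 : GS m F) (RingEquiv.refl F) = 1 := by
  apply MulEquiv.ext
  intro x
  obtain ⟨s, rfl⟩ := QuotientGroup.mk_surjective x
  rw [gsAut_mk]
  change _ = (QuotientGroup.mk s : Cfsg.PSp m F)
  congr 1
  apply sp_ext'
  rw [spMap_coe]
  have h1 : ((1 : GS m F)⁻¹).1.1 = 1 := by
    rw [inv_one]
    rfl
  rw [h1]
  change (1 : Matrix (Fin m ⊕ Fin m) (Fin m ⊕ Fin m) F) * _ * 1 = _
  rw [Matrix.one_mul, Matrix.mul_one]
  ext i j
  rfl

lemma glS_one (σ : F ≃+* F) : glS σ (1 : GS m F) = 1 := map_one _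

lemma glS_refl (G : GS m F) : glS (RingEquiv.refl F) G = G := by
  apply Subtype.ext
  apply Units.ext
  ext i j
  rfl

lemma glS_symm (τ : F ≃+* F) (x : GS m F) : glS τ (glS τ.symm x) = x := by
  apply Subtype.ext
  apply Units.ext
  ext i j
  simp [glS_coe]

lemma glS_symm' (τ : F ≃+* F) (x : GS m F) : glS τ.symm (glS τ x) = x := by
  apply Subtype.ext
  apply Units.ext
  ext i j
  simp [glS_coe]

lemma gsAut_inv (G : GS m F) (σ : F ≃+* F) : (gsAut G σ)⁻¹ = gsAut (glS σ.symm G⁻¹) σ.symm := by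
  apply inv_eq_of_mul_eq_one_right
  rw [gsAut_mul, glS_symm, mul_inv_cancel]
  have : σ.symm.trans σ = RingEquiv.refl F := by
    ext a
    simp
  rw [this, gsAut_one]

/-! ### Scalars -/

/-- The scalar in `GS`. -/
noncomputable def scS (c : Fˣ) : GS m F :=
  ⟨Matrix.GeneralLinearGroup.scalar _ c, by
    refine ⟨c * c, fun u v => ?_⟩
    have h : ∀ x : Fin m ⊕ Fin m → F, ((Matrix.GeneralLinearGroup.scalar (Fin m ⊕ Fin m) c : GL _ F) : Matrix _ _ F) *ᵥ x = (c : F) • x := by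
      intro x
      rw [Matrix.GeneralLinearGroup.scalar]
      simp [Matrix.scalar_apply, Matrix.mulVec_diagonal]
    change ω (_ *ᵥ u) (_ *ᵥ v) = _ * ω u v
    rw [h, h, ω_smul_left, ω_smul_right, Units.val_mul, mul_assoc]⟩

lemma scS_coe (c : Fˣ) : (scS c : GS m F).1.1 = (c : F) • (1 : Matrix (Fin m ⊕ Fin m) (Fin m ⊕ Fin m) F) := by
  ext i j
  simp [scS, Matrix.GeneralLinearGroup.scalar, Matrix.one_apply, Matrix.scalar_apply, Matrix.diagonal_apply]

lemma scS_mulVec (c : Fˣ) (x : Fin m ⊕ Fin m → F) : (scS c : GS m F).1.1 *ᵥ x = (c : F) • x := by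
  rw [scS_coe, smul_mulVec, one_mulVec]

lemma scS_mul (c d : Fˣ) : (scS (c * d) : GS m F) = scS c * scS d := by
  apply Subtype.ext
  apply Units.ext
  change (scS (c * d) : GS m F).1.1 = (scS c : GS m F).1.1 * (scS d : GS m F).1.1
  rw [scS_coe, scS_coe, scS_coe, Matrix.smul_mul, Matrix.mul_smul, Matrix.one_mul, smul_smul, Units.val_mul]

lemma scS_inv (c : Fˣ) : (scS c⁻¹ : GS m F) = (scS c)⁻¹ := by
  apply eq_inv_of_mul_eq_one_left
  apply Subtype.ext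
  apply Units.ext
  change (scS c⁻¹ : GS m F).1.1 * (scS c : GS m F).1.1 = 1
  rw [scS_coe, scS_coe]
  simp [smul_smul]

lemma gsAut_scS_mul (G : GS m F) (σ : F ≃+* F) (c : Fˣ) : gsAut (G * scS c) σ = gsAut G σ := by
  apply MulEquiv.ext
  intro x
  obtain ⟨s, rfl⟩ := QuotientGroup.mk_surjective x
  rw [gsAut_mk, gsAut_mk]
  congr 1
  apply sp_ext'
  rw [spMap_coe, spMap_coe, _root_.mul_inv_rev, ← scS_inv]
  change (G.1.1 * (scS c : GS m F).1.1) * _ * ((scS c⁻¹ : GS m F).1.1 * (G⁻¹).1.1) = _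
  rw [scS_coe, scS_coe]
  simp only [Matrix.mul_smul, Matrix.smul_mul, Matrix.mul_one, Matrix.one_mul, smul_smul]
  have : ((c⁻¹ : Fˣ) : F) * (c : F) = 1 := by simp
  rw [this, one_smul]

lemma glS_scS (τ : F ≃+* F) (c : Fˣ) : glS τ (scS c : GS m F) = scS (Units.map (τ : F →* F) c) := by
  apply Subtype.ext
  apply Units.ext
  rw [glS_coe, scS_coe, scS_coe]
  ext i j
  by_cases hij : i = j
  · simp [hij]
  · simp [hij, Matrix.one_apply]

/-! ### The images of transvections -/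

lemma spMap_T [NeZero m] (G : GS m F) (σ : F ≃+* F) (v : Fin m ⊕ Fin m → F) (c : F) :
    spMap G σ (T v c) = T (G.1.1 *ᵥ fm σ v) (σ c * ((mu G : Fˣ) : F)⁻¹) := by
  apply Sp_ext
  intro x
  rw [T_smul, Sp_smul_def, spMap_coe, ← mulVec_mulVec, ← mulVec_mulVec]
  set y := (G⁻¹).1.1 *ᵥ x with hy
  have hx : x = G.1.1 *ᵥ y := by
    rw [hy, mulVec_mulVec, gs_mul_inv, one_mulVec]
  have h1 : (T v c).1.map σ *ᵥ y = y + (σ c * ω (fm σ v) y) • fm σ v := by
    have h2 := fm_mulVec σ (T v c).1 (fm σ.symm y)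
    rw [fm_fm_symm] at h2
    rw [← h2]
    change fm σ (T v c • fm σ.symm y) = _
    rw [T_smul]
    ext i
    simp only [fm, Pi.add_apply, Pi.smul_apply, smul_eq_mul, map_add, map_mul, RingEquiv.apply_symm_apply]
    have h3 := ω_fm σ v (fm σ.symm y)
    rw [fm_fm_symm] at h3
    rw [h3]
  rw [h1, mulVec_add, mulVec_smul, ← hx, hx, mu_form]
  congr 2
  have hne := (mu G).ne_zero
  field_simp

lemma gsAut_tb [NeZero m] (G : GS m F) (σ : F ≃+* F) (v : Fin m ⊕ Fin m → F) (c : F) :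
    gsAut G σ (tb v c) = tb (G.1.1 *ᵥ fm σ v) (σ c * ((mu G : Fˣ) : F)⁻¹) := by
  rw [tb, gsAut_mk, spMap_T]

/-! ### Faithfulness -/

lemma gs_ne (G : GS m F) {v : Fin m ⊕ Fin m → F} (hv : v ≠ 0) : G.1.1 *ᵥ v ≠ 0 := by
  intro h0
  apply hv
  have h1 := congrArg (fun y => (G⁻¹).1.1 *ᵥ y) h0
  simp only [mulVec_mulVec, gs_inv_mul, one_mulVec, mulVec_zero] at h1
  exact h1

lemma prop_of_gsAut_eq_one [Finite F] [NeZero m] (hm : 2 ≤ m) {G : GS m F} {σ : F ≃+* F} (h : gsAut G σ = 1)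
    {v : Fin m ⊕ Fin m → F} (hv : v ≠ 0) : ∃ l : F, l ≠ 0 ∧ G.1.1 *ᵥ fm σ v = l • v := by
  have h1 := gsAut_tb G σ v 1
  rw [h] at h1
  obtain ⟨l, hl, hle⟩ := tb_eq_tb hm (one_ne_zero) hv h1.symm
  exact ⟨l, hl, hle⟩

lemma fm_single (σ : F ≃+* F) (k : Fin m ⊕ Fin m) : fm σ (Pi.single k 1) = Pi.single k 1 := by
  classical
  ext i
  by_cases h : i = k
  · subst h
    simp [fm]
  · simp [fm, Pi.single_apply, h]

/-- `gsAut G σ = 1` iff `σ = 1` and `G` is scalar. -/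
theorem eq_of_gsAut_eq_one [Finite F] [NeZero m] (hm : 2 ≤ m) {G : GS m F} {σ : F ≃+* F} (h : gsAut G σ = 1) :
    σ = RingEquiv.refl F ∧ ∃ c : Fˣ, G = scS c := by
  classical
  have hpar := fun (v : Fin m ⊕ Fin m → F) (hv : v ≠ 0) => prop_of_gsAut_eq_one hm h hv
  have hS : ∀ k : Fin m ⊕ Fin m, (Pi.single k 1 : Fin m ⊕ Fin m → F) ≠ 0 := by
    intro k h0
    have := congrFun h0 k
    simp at this
  have hei : ∀ k : Fin m ⊕ Fin m, ∃ c : F, c ≠ 0 ∧ G.1.1 *ᵥ (Pi.single k 1) = c • Pi.single k 1 := by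
    intro k
    obtain ⟨c, hc, h1⟩ := hpar _ (hS k)
    rw [fm_single] at h1
    exact ⟨c, hc, h1⟩
  choose c hc hce using hei
  have hcij : ∀ i j : Fin m ⊕ Fin m, i ≠ j → c i = c j := by
    intro i j hij
    have h0 : (Pi.single i 1 + Pi.single j 1 : Fin m ⊕ Fin m → F) ≠ 0 := by
      intro h1
      have := congrFun h1 i
      simp [hij, Pi.single_apply] at this
    obtain ⟨d, hd, h1⟩ := hpar _ h0
    have h2 : fm σ (Pi.single i 1 + Pi.single j 1 : Fin m ⊕ Fin m → F) = Pi.single i 1 + Pi.single j 1 := by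
      ext k
      have e1 := congrFun (fm_single σ i) k
      have e2 := congrFun (fm_single σ j) k
      simp only [fm] at e1 e2
      simp only [fm, Pi.add_apply, map_add, e1, e2]
    rw [h2, mulVec_add, hce, hce] at h1
    have e1 := congrFun h1 i
    have e2 := congrFun h1 j
    simp [Pi.single_apply, hij, hij.symm] at e1 e2
    rw [e1, e2]
  set k₀ : Fin m ⊕ Fin m := Sum.inl 0 with hk₀
  have hcc : ∀ i, c i = c k₀ := by
    intro i
    by_cases hi : i = k₀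
    · rw [hi]
    · exact hcij _ _ hi
  have hg : G.1.1 = c k₀ • (1 : Matrix (Fin m ⊕ Fin m) (Fin m ⊕ Fin m) F) := by
    ext i j
    have h1 := congrFun (hce j) i
    rw [Matrix.mulVec_single_one] at h1
    rw [hcc j] at h1
    have h2 : G.1.1 i j = (c k₀ • (Pi.single j 1 : Fin m ⊕ Fin m → F)) i := h1
    rw [h2]
    simp [Matrix.one_apply, Pi.single_apply]
  constructor
  · ext a
    have hne : k₀ ≠ Sum.inr 0 := by simp [hk₀]
    have h0 : (Pi.single k₀ 1 + a • Pi.single (Sum.inr 0) 1 : Fin m ⊕ Fin m → F) ≠ 0 := by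
      intro h1
      have := congrFun h1 k₀
      simp [Pi.single_apply, hne] at this
    obtain ⟨d, hd, h1⟩ := hpar _ h0
    rw [hg, smul_mulVec, one_mulVec] at h1
    have e1 := congrFun h1 k₀
    have e2 := congrFun h1 (Sum.inr 0)
    simp [Pi.single_apply, hne, hne.symm, fm] at e1 e2
    have h3 : c k₀ * σ a = c k₀ * a := by
      rw [e2, ← e1]
    exact mul_left_cancel₀ (hc k₀) h3
  · refine ⟨Units.mk0 (c k₀) (hc k₀), ?_⟩
    apply Subtype.ext
    apply Units.ext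
    change G.1.1 = (scS _ : GS m F).1.1
    rw [hg, scS_coe]
    rfl

/-- Equality of the standard automorphisms. -/
theorem gsAut_eq_gsAut_iff [Finite F] [NeZero m] (hm : 2 ≤ m) {G H : GS m F} {σ τ : F ≃+* F} :
    gsAut G σ = gsAut H τ ↔ σ = τ ∧ ∃ c : Fˣ, G = H * scS c := by
  constructor
  · intro e
    have h1 : (gsAut H τ)⁻¹ * gsAut G σ = 1 := by rw [e]; group
    rw [gsAut_inv, gsAut_mul] at h1
    obtain ⟨h2, c, h3⟩ := eq_of_gsAut_eq_one hm h1
    have hστ : σ = τ := by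
      ext a
      have h4 := congrArg (fun ρ : F ≃+* F => ρ a) h2
      simp only [RingEquiv.coe_trans, Function.comp_apply, RingEquiv.refl_apply] at h4
      exact (τ.symm_apply_eq).mp h4
    subst hστ
    refine ⟨rfl, Units.map (σ : F →* F) c, ?_⟩
    have h5 := congrArg (glS σ) h3
    rw [map_mul, glS_symm, glS_symm, glS_scS] at h5
    rw [← h5]
    group
  · rintro ⟨rfl, c, rfl⟩
    exact gsAut_scS_mul _ _ _

/-! ### Predicates of the prelude -/

lemma isInduced_iff (G : GS m F) (σ : F ≃+* F) (β : Cfsg.PSp m F ≃* Cfsg.PSp m F) :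
    Cfsg.IsInducedBySemilinearPSp G.1 σ β ↔ β = gsAut G σ := by
  constructor
  · intro h
    apply MulEquiv.ext
    intro x
    obtain ⟨s, rfl⟩ := QuotientGroup.mk_surjective x
    rw [gsAut_mk]
    apply h
    rw [spMap_coe]
    rfl
  · rintro rfl s s' h
    rw [gsAut_mk]
    congr 1
    apply sp_ext'
    rw [spMap_coe, h]
    rfl

/-- Inner-diagonal automorphisms. -/
noncomputable abbrev dlS (G : GS m F) : MulAut (Cfsg.PSp m F) := gsAut G (RingEquiv.refl F)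

/-- Standard field automorphisms. -/
noncomputable abbrev faS (σ : F ≃+* F) : MulAut (Cfsg.PSp m F) := gsAut 1 σ

lemma isInnerDiag_iff (β : MulAut (Cfsg.PSp m F)) :
    Cfsg.IsInnerDiagonalAutPSp β ↔ ∃ G : GS m F, β = dlS G := by
  constructor
  · rintro ⟨G, hG, h⟩
    exact ⟨⟨G, hG⟩, (isInduced_iff ⟨G, hG⟩ _ β).mp h⟩
  · rintro ⟨G, rfl⟩
    exact ⟨G.1, G.2, (isInduced_iff G _ _).mpr rfl⟩

lemma isStd_iff (σ : F ≃+* F) (φ : MulAut (Cfsg.PSp m F)) :
    Cfsg.IsStdFieldAutPSp σ φ ↔ φ = faS σ := by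
  constructor
  · intro h
    apply MulEquiv.ext
    intro x
    obtain ⟨s, rfl⟩ := QuotientGroup.mk_surjective x
    rw [gsAut_mk]
    apply h
    rw [spMap_coe]
    have h1 : ((1 : GS m F)⁻¹).1.1 = 1 := by
      rw [inv_one]
      rfl
    rw [h1]
    change (1 : Matrix (Fin m ⊕ Fin m) (Fin m ⊕ Fin m) F) * _ * 1 = _
    rw [Matrix.one_mul, Matrix.mul_one]
  · rintro rfl s s' h
    rw [gsAut_mk]
    congr 1
    apply sp_ext'
    rw [spMap_coe, h]
    have h1 : ((1 : GS m F)⁻¹).1.1 = 1 := by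
      rw [inv_one]
      rfl
    rw [h1]
    change (1 : Matrix (Fin m ⊕ Fin m) (Fin m ⊕ Fin m) F) * _ * 1 = _
    rw [Matrix.one_mul, Matrix.mul_one]

lemma dlS_mul (G H : GS m F) : dlS G * dlS H = dlS (G * H) := by
  rw [dlS, dlS, gsAut_mul, glS_refl]
  rfl

lemma dlS_one : dlS (1 : GS m F) = 1 := gsAut_one

lemma dlS_inv (G : GS m F) : (dlS G)⁻¹ = dlS G⁻¹ := by
  apply inv_eq_of_mul_eq_one_right
  rw [dlS_mul, mul_inv_cancel, dlS_one]

lemma dlS_mul_faS (G : GS m F) (σ : F ≃+* F) : dlS G * faS σ = gsAut G σ := by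
  rw [dlS, faS, gsAut_mul, glS_one, mul_one]
  rfl

lemma faS_mul_dlS (G : GS m F) (σ : F ≃+* F) : faS σ * dlS G = gsAut (glS σ G) σ := by
  rw [faS, dlS, gsAut_mul, one_mul]
  rfl

lemma faS_mul (σ τ : F ≃+* F) : (faS σ : MulAut (Cfsg.PSp m F)) * faS τ = faS (τ.trans σ) := by
  rw [faS, faS, gsAut_mul, glS_one, mul_one]

lemma faS_one : (faS (RingEquiv.refl F) : MulAut (Cfsg.PSp m F)) = 1 := gsAut_one

lemma mem_inndiag_iff (β : MulAut (Cfsg.PSp m F)) :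
    β ∈ Cfsg.inndiagPSp m F ↔ ∃ G : GS m F, β = dlS G := by
  constructor
  · intro h
    induction h using Subgroup.closure_induction with
    | mem x hx => exact (isInnerDiag_iff x).mp hx
    | one => exact ⟨1, dlS_one.symm⟩
    | mul x y _ _ hx hy =>
      obtain ⟨a, rfl⟩ := hx
      obtain ⟨b, rfl⟩ := hy
      exact ⟨a * b, dlS_mul a b⟩
    | inv x _ hx =>
      obtain ⟨a, rfl⟩ := hx
      exact ⟨a⁻¹, dlS_inv a⟩
  · rintro ⟨G, rfl⟩
    exact Subgroup.subset_closure ((isInnerDiag_iff _).mpr ⟨G, rfl⟩)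

lemma dlS_mem_inndiag (G : GS m F) : dlS G ∈ Cfsg.inndiagPSp m F :=
  (mem_inndiag_iff _).mpr ⟨G, rfl⟩

/-- `dlS` as a homomorphism. -/
noncomputable def dlHom : GS m F →* MulAut (Cfsg.PSp m F) where
  toFun := dlS
  map_one' := dlS_one
  map_mul' := fun g h => (dlS_mul g h).symm

lemma dlHom_apply (g : GS m F) : dlHom g = dlS g := rfl

lemma inndiag_eq_range : Cfsg.inndiagPSp m F = (dlHom : GS m F →* _).range := by
  ext β
  rw [mem_inndiag_iff]
  constructor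
  · rintro ⟨g, rfl⟩
    exact ⟨g, rfl⟩
  · rintro ⟨g, rfl⟩
    exact ⟨g, rfl⟩

/-- `faS` as a homomorphism (to an opposite order, which does not matter for cyclic groups of automorphisms). -/
lemma faS_pow (σ : F ≃+* F) (k : ℕ) : (faS σ : MulAut (Cfsg.PSp m F)) ^ k = faS (σ ^ k) := by
  induction k with
  | zero =>
    rw [pow_zero, pow_zero]
    exact faS_one.symm
  | succ n ih =>
    rw [pow_succ, ih, faS_mul, pow_succ]
    rfl

end Cfsg.Agent.Lib.AutPSp
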