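import Cfsg.Agent.Lib.AutPSp.Exc
import Cfsg.Agent.Lib.AutPSL.FieldCent

/-!
# Centralisers of field automorphisms in `Inndiag(PSp_{2m}(F))`
-/

set_option autoImplicit false

namespace Cfsg.Agent.Lib.AutPSp

open Matrix Cfsg.Agent.Lib.SpBasic Cfsg.Agent.Lib.Hilbert90
open scoped MatrixGroups

variable {F : Type*} [Field F] {m : ℕ}

lemma mu_glS [NeZero m] (σ : F ≃+* F) (G : GS m F) : mu (glS σ G) = Units.map (σ : F →* F) (mu G) := by
  apply Units.ext
  apply mu_unique
  intro u v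
  have h1 := mu_form G (fm σ.symm u) (fm σ.symm v)
  have h2 := congrArg σ h1
  rw [map_mul, ← ω_fm, ← ω_fm, fm_mulVec, fm_mulVec, fm_fm_symm, fm_fm_symm] at h2
  exact h2

/-- The diagonal conformal matrix with multiplier `t`. -/
noncomputable def diagS (t : Fˣ) : GS m F :=
  ⟨⟨diagonal (Sum.elim (fun _ => (t : F)) (fun _ => 1)), diagonal (Sum.elim (fun _ => ((t⁻¹ : Fˣ) : F)) (fun _ => 1)),
    by
      rw [diagonal_mul_diagonal, ← diagonal_one]
      congr 1
      funext i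
      cases i <;> simp,
    by
      rw [diagonal_mul_diagonal, ← diagonal_one]
      congr 1
      funext i
      cases i <;> simp⟩,
    ⟨t, fun u v => by
      change ω (diagonal (Sum.elim (fun _ => (t : F)) (fun _ => 1)) *ᵥ u) (diagonal (Sum.elim (fun _ => (t : F)) (fun _ => 1)) *ᵥ v) = _ * ω u v
      rw [ω_apply, ω_apply, Finset.mul_sum]
      apply Finset.sum_congr rfl
      intro i _
      simp only [mulVec_diagonal, Sum.elim_inl, Sum.elim_inr]
      ring⟩⟩

lemma diagS_coe (t : Fˣ) : (diagS t : GS m F).1.1 = diagonal (Sum.elim (fun _ => (t : F)) (fun _ => 1)) := rfl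

lemma mu_diagS [NeZero m] (t : Fˣ) : mu (diagS t : GS m F) = t := by
  apply Units.ext
  apply mu_unique
  intro u v
  rw [diagS_coe, ω_apply, ω_apply, Finset.mul_sum]
  apply Finset.sum_congr rfl
  intro i _
  simp only [mulVec_diagonal, Sum.elim_inl, Sum.elim_inr]
  ring

lemma glS_diagS (σ : F ≃+* F) (t : Fˣ) : glS σ (diagS t : GS m F) = diagS (Units.map (σ : F →* F) t) := by
  apply Subtype.ext
  apply Units.ext
  rw [glS_coe, diagS_coe, diagS_coe]
  ext i j
  by_cases hij : i = j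
  · subst hij
    cases i <;> simp
  · simp [hij]

lemma mu_surjective [NeZero m] : Function.Surjective (mu : GS m F →* Fˣ) := fun t => ⟨diagS t, mu_diagS t⟩

lemma commute_dlS_faS_iff [Finite F] [NeZero m] (hm : 2 ≤ m) (u : GS m F) (σ : F ≃+* F) :
    Commute (dlS u) (faS σ) ↔ ∃ c : Fˣ, u = glS σ u * scS c := by
  change dlS u * faS σ = faS σ * dlS u ↔ _
  rw [dlS_mul_faS, faS_mul_dlS, gsAut_eq_gsAut_iff hm]
  simp

lemma exists_entry_ne_zero_S [NeZero m] (u : GS m F) : ∃ i j, u.1.1 i j ≠ 0 := by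
  by_contra h
  push Not at h
  have h1 : u.1.1 = 0 := by
    ext i j
    exact h i j
  have h2 := gs_mul_inv u
  rw [h1, Matrix.zero_mul] at h2
  have h3 := congrFun (congrFun h2 (Sum.inl 0)) (Sum.inl 0)
  simp at h3

/-- A scalar multiple of `u` is fixed by `σ`. -/
lemma exists_fixed_of_commute_S [NeZero m] (σ : F ≃+* F) {r : ℕ} (hr : 0 < r) (hord : orderOf σ = r) (u : GS m F)
    {c : Fˣ} (h : u = glS σ u * scS c) :
    ∃ d : Fˣ, glS σ (u * scS d) = u * scS d := by
  have hσr : σ ^ r = 1 := by rw [← hord]; exact pow_orderOf_eq_one σ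
  have h1 : glS σ u = u * scS c⁻¹ := by
    conv_rhs => rw [h]
    rw [scS_inv, mul_assoc, mul_inv_cancel, mul_one]
  have h2 : ∀ i j, σ (u.1.1 i j) = ((c⁻¹ : Fˣ) : F) * u.1.1 i j := by
    intro i j
    have h3 := congrArg (fun g : GS m F => g.1.1 i j) h1
    change u.1.1.map σ i j = (u.1.1 * (scS c⁻¹ : GS m F).1.1) i j at h3
    rw [scS_coe, Matrix.mul_smul, Matrix.mul_one, Matrix.smul_apply, smul_eq_mul, Matrix.map_apply] at h3
    exact h3
  obtain ⟨i, j, hij⟩ := exists_entry_ne_zero_S u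
  have hN := pnorm_eq_one_of_fixed σ hσr hij (h2 i j)
  obtain ⟨d, hd, hcd⟩ := exists_of_pnorm_eq_one σ hr hord hN
  refine ⟨Units.mk0 d hd, ?_⟩
  rw [map_mul, h1, glS_scS, mul_assoc, ← scS_mul]
  congr 2
  apply Units.ext
  simpa using hcd

lemma conj_conj_eq_S (φ : MulAut (Cfsg.PSp m F)) (a : Cfsg.PSp m F) :
    φ * MulAut.conj a * φ⁻¹ = MulAut.conj (φ a) := by
  ext x
  simp [MulAut.conj_apply, MulAut.inv_def, MulAut.mul_apply]

/-- The split count in terms of multipliers. -/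
theorem count_of_T_S [Fintype F] [NeZero m] (hm : 2 ≤ m) (x₀ : MulAut (Cfsg.PSp m F)) (T : Subgroup Fˣ)
    (h1 : ∀ t ∈ T, ∃ u : GS m F, Commute (dlS u) x₀ ∧ mu u = t)
    (h2 : ∀ u : GS m F, Commute (dlS u) x₀ → ∃ a : Fˣ, ∃ t ∈ T, mu u = a ^ 2 * t) :
    Cfsg.splitClassCount (Cfsg.inndiagPSp m F) (Cfsg.Inn (Cfsg.PSp m F)) x₀ =
      Nat.gcd (Nat.card Fˣ / Nat.card T) 2 := by
  classical
  rw [inndiag_eq_range]
  set S : Subgroup Fˣ := (powMonoidHom 2 : Fˣ →* Fˣ).range ⊔ T with hS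
  let D : GS m F →* Fˣ ⧸ S := (QuotientGroup.mk' S).comp mu
  have hK : Cfsg.Inn (Cfsg.PSp m F) ≤ (dlHom : GS m F →* _).range := by
    rintro _ ⟨x, rfl⟩
    obtain ⟨s, rfl⟩ := QuotientGroup.mk_surjective x
    exact ⟨spG s, (conj_eq_dlS s).symm⟩
  have hnorm : ∀ k ∈ Cfsg.Inn (Cfsg.PSp m F), ∀ g : GS m F,
      dlHom g * k * (dlHom g)⁻¹ ∈ Cfsg.Inn (Cfsg.PSp m F) := by
    rintro _ ⟨a, rfl⟩ g
    refine ⟨dlHom g a, ?_⟩
    exact (conj_conj_eq_S _ _).symm
  have hD : Function.Surjective D := by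
    intro y
    obtain ⟨t, rfl⟩ := QuotientGroup.mk'_surjective S y
    obtain ⟨g, rfl⟩ := mu_surjective (m := m) t
    exact ⟨g, rfl⟩
  have hker : ∀ g, D g = 1 ↔ ∃ k u, dlHom k ∈ Cfsg.Inn (Cfsg.PSp m F) ∧
      Commute (dlHom u) x₀ ∧ g = k * u := by
    intro g
    have h3 : D g = 1 ↔ mu g ∈ S := by
      change (QuotientGroup.mk (mu g) : Fˣ ⧸ S) = 1 ↔ _
      exact QuotientGroup.eq_one_iff _
    rw [h3, hS, Subgroup.mem_sup]
    constructor
    · rintro ⟨_, ⟨a, rfl⟩, t, ht, he⟩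
      obtain ⟨u, hu, hdu⟩ := h1 t ht
      refine ⟨g * u⁻¹, u, ?_, hu, by group⟩
      rw [dlHom_apply, dlS_mem_inn_iff hm]
      refine ⟨a, ?_⟩
      rw [map_mul, map_inv, hdu, ← he]
      simp [pow_two]
    · rintro ⟨k, u, hk, hu, rfl⟩
      rw [dlHom_apply, dlS_mem_inn_iff hm] at hk
      obtain ⟨a, ha⟩ := hk
      obtain ⟨b, t, ht, hb⟩ := h2 u hu
      refine ⟨(a * b) ^ 2, ⟨a * b, rfl⟩, t, ht, ?_⟩
      rw [map_mul, ha, hb, mul_pow, pow_two a, mul_assoc]
  have h4 := Cfsg.Agent.Lib.AutPSL.split_count (dlHom : GS m F →* _) (Cfsg.Inn (Cfsg.PSp m F)) x₀ hK hnorm D hD hker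
  rw [h4, hS, Cfsg.Agent.Lib.AutPSL.card_quot_pow_sup]

/-- The split count of a standard field automorphism. -/
theorem field_count_S [Fintype F] [NeZero m] (hm : 2 ≤ m) (σ : F ≃+* F) {r : ℕ} (hr : 0 < r) (hord : orderOf σ = r) :
    Cfsg.splitClassCount (Cfsg.inndiagPSp m F) (Cfsg.Inn (Cfsg.PSp m F)) (faS σ) =
      Nat.gcd (Nat.card (coB σ).range) 2 := by
  have hT : ∀ t : Fˣ, t ∈ (coB σ).ker ↔ Units.map (σ : F →* F) t = t := by
    intro t
    rw [MonoidHom.mem_ker]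
    change t / Units.map (σ : F →* F) t = 1 ↔ _
    rw [div_eq_one, eq_comm]
  rw [count_of_T_S hm (faS σ) (coB σ).ker]
  · congr 1
    have h1 := Subgroup.card_mul_index (coB σ).ker
    rw [Subgroup.index_ker] at h1
    rw [← h1, Nat.mul_div_cancel_left _ Nat.card_pos]
  · intro t ht
    refine ⟨diagS t, ?_, mu_diagS t⟩
    rw [commute_dlS_faS_iff hm]
    refine ⟨1, ?_⟩
    rw [glS_diagS, (hT t).mp ht]
    have h1 : (scS 1 : GS m F) = 1 := by
      apply Subtype.ext
      apply Units.ext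
      rw [scS_coe]
      simp
    rw [h1, mul_one]
  · intro u hu
    obtain ⟨c, hc⟩ := (commute_dlS_faS_iff hm u σ).mp hu
    obtain ⟨d, hd⟩ := exists_fixed_of_commute_S σ hr hord u hc
    refine ⟨d⁻¹, mu (u * scS d), ?_, ?_⟩
    · rw [hT, ← mu_glS, hd]
    · rw [map_mul, mu_scS]
      have : (d⁻¹) ^ 2 * (mu u * (d * d)) = mu u := by
        rw [mul_comm (mu u), ← mul_assoc, inv_pow, pow_two, inv_mul_cancel, one_mul]
      exact this.symm

section Descent

variable {F₀ : Type*} [Field F₀] [Fintype F₀] [Fintype F]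

/-- Extension of scalars for conformal matrices. -/
noncomputable def mapGS [NeZero m] (ι : F₀ →+* F) : GS m F₀ →* GS m F where
  toFun g := ⟨Matrix.GeneralLinearGroup.map ι g.1, mem_GSp_of_transpose _ (Units.map (ι : F₀ →* F) (mu g)) (by
    have h1 := transpose_form g
    have h2 := congrArg (fun M => M.map ι) h1
    simp only [Matrix.map_mul, Matrix.transpose_map, Matrix.map_J] at h2
    have h3 : (((mu g : F₀ˣ) : F₀) • J (Fin m) F₀).map ι = ((Units.map (ι : F₀ →* F) (mu g) : Fˣ) : F) • J (Fin m) F := by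
      ext i j
      rw [Matrix.map_apply, Matrix.smul_apply, smul_eq_mul, map_mul, Matrix.smul_apply, smul_eq_mul]
      congr 1
      have h4 := congrFun (congrFun (Matrix.map_J (Fin m) ι) i) j
      exact h4
    rw [h3] at h2
    exact h2)⟩
  map_one' := by
    apply Subtype.ext
    exact map_one _
  map_mul' g h := by
    apply Subtype.ext
    exact map_mul _ _ _

lemma mapGS_coe [NeZero m] (ι : F₀ →+* F) (g : GS m F₀) : (mapGS ι g).1.1 = g.1.1.map ι := rfl

lemma commute_dlS_map [NeZero m] (hm : 2 ≤ m) (σ : F ≃+* F) (ι : F₀ →+* F) (hι : ∀ x, σ (ι x) = ι x) (g : GS m F₀) :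
    Commute (dlS (mapGS ι g)) (faS σ) := by
  rw [commute_dlS_faS_iff hm]
  refine ⟨1, ?_⟩
  have h1 : (scS 1 : GS m F) = 1 := by
    apply Subtype.ext
    apply Units.ext
    rw [scS_coe]
    simp
  rw [h1, mul_one]
  apply Subtype.ext
  apply Units.ext
  rw [glS_coe, mapGS_coe]
  ext i j
  exact (hι _).symm

/-- The centraliser of `faS σ`. -/
theorem field_cent_equiv_S [NeZero m] (hm : 2 ≤ m) (σ : F ≃+* F) {r : ℕ} (hr : 0 < r) (hord : orderOf σ = r)
    (hF₀ : Fintype.card F₀ = Nat.card (fixedF σ)) :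
    Nonempty (↥(Cfsg.inndiagPSp m F ⊓ Subgroup.centralizer {(faS σ : MulAut (Cfsg.PSp m F))}) ≃* Cfsg.PGSp m F₀) := by
  classical
  haveI : Fintype (fixedF σ) := Fintype.ofFinite _
  have hcard : Fintype.card F₀ = Fintype.card (fixedF σ) := by
    rw [hF₀, Nat.card_eq_fintype_card]
  let e₀ : F₀ ≃+* fixedF σ := FiniteField.ringEquivOfCardEq hcard
  let ι : F₀ →+* F := (fixedF σ).subtype.comp e₀.toRingHom
  have hι : ∀ x, σ (ι x) = ι x := fun x => (e₀ x).2
  have hιinj : Function.Injective ι := ι.injective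
  have hmem : ∀ g : GS m F₀, dlHom (mapGS ι g) ∈
      Cfsg.inndiagPSp m F ⊓ Subgroup.centralizer {(faS σ : MulAut (Cfsg.PSp m F))} := by
    intro g
    refine ⟨dlS_mem_inndiag _, ?_⟩
    change dlS _ ∈ Subgroup.centralizer {(faS σ : MulAut (Cfsg.PSp m F))}
    rw [Subgroup.mem_centralizer_singleton_iff]
    exact commute_dlS_map hm σ ι hι g
  let P : GS m F₀ →* ↥(Cfsg.inndiagPSp m F ⊓ Subgroup.centralizer {(faS σ : MulAut (Cfsg.PSp m F))}) :=
    (dlHom.comp (mapGS ι)).codRestrict _ hmem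
  have hP : ∀ g, ((P g : ↥(Cfsg.inndiagPSp m F ⊓ Subgroup.centralizer {(faS σ : MulAut (Cfsg.PSp m F))})) : MulAut (Cfsg.PSp m F)) = dlS (mapGS ι g) := fun _ => rfl
  have hsurj : Function.Surjective P := by
    rintro ⟨β, hβ1, hβ2⟩
    obtain ⟨u, rfl⟩ := (mem_inndiag_iff β).mp hβ1
    have hβ2' : dlS u ∈ Subgroup.centralizer {(faS σ : MulAut (Cfsg.PSp m F))} := hβ2
    rw [Subgroup.mem_centralizer_singleton_iff] at hβ2'
    obtain ⟨c, hc⟩ := (commute_dlS_faS_iff hm u σ).mp hβ2'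
    obtain ⟨d, hd⟩ := exists_fixed_of_commute_S σ hr hord u hc
    set u' := u * scS d with hu'
    have hfix : ∀ i j, u'.1.1 i j ∈ fixedF σ := by
      intro i j
      have h1 := congrArg (fun g : GS m F => g.1.1 i j) hd
      exact h1
    let M : Matrix (Fin m ⊕ Fin m) (Fin m ⊕ Fin m) F₀ := fun i j => e₀.symm ⟨u'.1.1 i j, hfix i j⟩
    have hM : M.map ι = u'.1.1 := by
      ext i j
      change ((e₀ (e₀.symm ⟨u'.1.1 i j, hfix i j⟩) : fixedF σ) : F) = _
      simp
    have hdet : M.det ≠ 0 := by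
      intro h0
      have h1 : (M.map ι).det = ι M.det := (RingHom.map_det ι M).symm
      rw [hM, h0, map_zero] at h1
      have h2 := (Matrix.GeneralLinearGroup.det u'.1).ne_zero
      exact h2 h1
    have hμ : σ (mu u' : Fˣ) = (mu u' : Fˣ) := by
      have h1 := mu_glS σ u'
      rw [hd] at h1
      have h2 := congrArg Units.val h1
      exact h2.symm
    set μ₀ : F₀ := e₀.symm ⟨(mu u' : Fˣ), hμ⟩ with hμ₀
    have hιμ : ι μ₀ = (mu u' : Fˣ) := by
      change ((e₀ (e₀.symm ⟨(mu u' : Fˣ), hμ⟩) : fixedF σ) : F) = _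
      simp
    have hμ0 : μ₀ ≠ 0 := by
      intro h0
      rw [h0, map_zero] at hιμ
      exact (mu u').ne_zero hιμ.symm
    have hform : Mᵀ * J (Fin m) F₀ * M = ((Units.mk0 μ₀ hμ0 : F₀ˣ) : F₀) • J (Fin m) F₀ := by
      apply Matrix.map_injective hιinj
      change (Mᵀ * J (Fin m) F₀ * M).map ι = (((Units.mk0 μ₀ hμ0 : F₀ˣ) : F₀) • J (Fin m) F₀).map ι
      have h1 := transpose_form u'
      rw [Matrix.map_mul, Matrix.map_mul, Matrix.transpose_map, hM, Matrix.map_J, h1, ← hιμ]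
      ext i j
      rw [Matrix.smul_apply, smul_eq_mul, Matrix.map_apply, Matrix.smul_apply, smul_eq_mul, map_mul]
      congr 1
      exact (congrFun (congrFun (Matrix.map_J (Fin m) ι) i) j).symm
    let g : GL (Fin m ⊕ Fin m) F₀ := Matrix.GeneralLinearGroup.mkOfDetNeZero M hdet
    have hg : g ∈ Cfsg.GSp m F₀ := mem_GSp_of_transpose g (Units.mk0 μ₀ hμ0) hform
    refine ⟨⟨g, hg⟩, ?_⟩
    apply Subtype.ext
    rw [hP]
    have h3 : mapGS ι (⟨g, hg⟩ : GS m F₀) = u' := by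
      apply Subtype.ext
      apply Units.ext
      exact hM
    rw [h3, hu']
    exact gsAut_scS_mul _ _ _
  have hker : (Cfsg.Geo.scalars (Fin m ⊕ Fin m) F₀).subgroupOf (Cfsg.GSp m F₀) = P.ker := by
    ext g
    rw [MonoidHom.mem_ker, Subgroup.mem_subgroupOf, Cfsg.Geo.mem_scalars_iff]
    constructor
    · rintro ⟨c, hc⟩
      apply Subtype.ext
      rw [hP]
      have h1 : mapGS ι g = 1 * scS (Units.map (ι : F₀ →* F) c) := by
        apply Subtype.ext
        apply Units.ext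
        rw [one_mul, scS_coe, mapGS_coe, hc]
        ext i j
        by_cases hij : i = j
        · subst hij
          simp
        · simp [hij]
      rw [h1]
      exact (gsAut_scS_mul _ _ _).trans gsAut_one
    · intro hg
      have h0 : dlS (mapGS ι g) = 1 := by
        rw [← hP, hg]
        rfl
      obtain ⟨-, c, hc⟩ := eq_of_gsAut_eq_one hm h0
      have hc' : g.1.1.map ι = (c : F) • (1 : Matrix (Fin m ⊕ Fin m) (Fin m ⊕ Fin m) F) := by
        rw [← mapGS_coe, hc, scS_coe]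
      have hoff : ∀ i j, i ≠ j → g.1.1 i j = 0 := by
        intro i j hij
        have h1 := congrFun (congrFun hc' i) j
        simp only [Matrix.map_apply, Matrix.smul_apply, Matrix.one_apply_ne hij, smul_zero] at h1
        apply hιinj
        rw [map_zero]
        exact h1
      have hdiag : ∀ i j, g.1.1 i i = g.1.1 j j := by
        intro i j
        apply hιinj
        have h1 := congrFun (congrFun hc' i) i
        have h2 := congrFun (congrFun hc' j) j
        simp only [Matrix.map_apply, Matrix.smul_apply, Matrix.one_apply_eq, smul_eq_mul, mul_one] at h1 h2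
        exact h1.trans h2.symm
      set i₀ : Fin m ⊕ Fin m := Sum.inl 0 with hi₀
      have hne : g.1.1 i₀ i₀ ≠ 0 := by
        intro h3
        obtain ⟨i, j, hij⟩ := exists_entry_ne_zero_S g
        apply hij
        by_cases h4 : i = j
        · subst h4
          rw [hdiag i i₀, h3]
        · exact hoff i j h4
      refine ⟨Units.mk0 _ hne, ?_⟩
      ext i j
      by_cases hij : i = j
      · subst hij
        simp [hdiag i i₀]
      · simp [hoff i j hij, hij]
  exact ⟨((QuotientGroup.quotientMulEquivOfEq hker).trans (QuotientGroup.quotientKerEquivOfSurjective P hsurj)).symm⟩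

end Descent

/-- An arithmetic identity: the parity of `(q^r - 1)/(q - 1)`. -/
lemma gcd_geom_two {p k r : ℕ} (hp : p.Prime) (hk : 0 < k) (hr : 0 < r) :
    Nat.gcd ((p ^ (r * k) - 1) / (p ^ k - 1)) 2 = Nat.gcd (Nat.gcd 2 (p ^ (r * k) - 1)) r := by
  have hq : 2 ≤ p ^ k := by
    calc 2 ≤ p := hp.two_le
      _ = p ^ 1 := (pow_one p).symm
      _ ≤ p ^ k := Nat.pow_le_pow_right hp.pos hk
  have h1 : (p ^ (r * k) - 1) / (p ^ k - 1) = ∑ i ∈ Finset.range r, (p ^ k) ^ i := by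
    rw [Nat.geomSum_eq hq, mul_comm r k, pow_mul]
  rw [h1]
  rcases hp.eq_two_or_odd' with rfl | hodd
  · have h2 : ∀ n : ℕ, (∑ i ∈ Finset.range (n + 1), (2 ^ k) ^ i) % 2 = 1 := by
      intro n
      induction n with
      | zero => simp
      | succ n ih =>
        rw [Finset.sum_range_succ, Nat.add_mod, ih]
        have h3 : ((2 ^ k) ^ (n + 1)) % 2 = 0 :=
          Nat.mod_eq_zero_of_dvd ((dvd_pow_self 2 (by omega)).trans (dvd_pow_self _ (by omega)))
        rw [h3]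
    have h3 : Nat.gcd (∑ i ∈ Finset.range r, (2 ^ k) ^ i) 2 = 1 := by
      obtain ⟨r', rfl⟩ : ∃ r', r = r' + 1 := ⟨r - 1, by omega⟩
      exact Nat.coprime_two_right.mpr (Nat.odd_iff.mpr (h2 r'))
    have h4 : Nat.gcd 2 (2 ^ (r * k) - 1) = 1 := by
      have h5 : 2 ∣ 2 ^ (r * k) := dvd_pow_self 2 (by positivity)
      have h6 : 2 ≤ 2 ^ (r * k) := Nat.le_of_dvd (by positivity) h5
      have h7 : Odd (2 ^ (r * k) - 1) := by
        obtain ⟨c, hc⟩ := h5
        exact ⟨c - 1, by omega⟩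
      exact (Nat.coprime_two_left.mpr h7)
    rw [h3, h4, Nat.gcd_one_left]
  · have h2 : Odd (p ^ k) := hodd.pow
    have h3 : ∀ n : ℕ, (∑ i ∈ Finset.range n, (p ^ k) ^ i) % 2 = n % 2 := by
      intro n
      induction n with
      | zero => simp
      | succ n ih =>
        rw [Finset.sum_range_succ, Nat.add_mod, ih, ← Nat.add_mod]
        have h4 : (p ^ k) ^ n % 2 = 1 := Nat.odd_iff.mp h2.pow
        omega
    have h5 : Even (p ^ (r * k) - 1) := by
      have h6 : Odd (p ^ (r * k)) := hodd.pow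
      obtain ⟨c, hc⟩ := h6
      exact ⟨c, by omega⟩
    have h6 : Nat.gcd 2 (p ^ (r * k) - 1) = 2 := Nat.gcd_eq_left h5.two_dvd
    rw [h6, Nat.gcd_comm _ 2, Nat.gcd_rec 2 (∑ i ∈ Finset.range r, (p ^ k) ^ i), h3, ← Nat.gcd_rec]

end Cfsg.Agent.Lib.AutPSp
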