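import Cfsg.Agent.Lib.AutPSp.Cent

/-!
# Counting the automorphisms of `PSp_{2m}`
-/

set_option autoImplicit false

namespace Cfsg.Agent.Lib.AutPSp

open Matrix Cfsg.Agent.Lib.SpBasic
open scoped MatrixGroups

variable {F : Type*} [Field F] {m : ℕ}

lemma scS_one : (scS 1 : GS m F) = 1 := by
  apply Subtype.ext
  apply Units.ext
  rw [scS_coe]
  simp

lemma spG_injective : Function.Injective (spG : Sp (Fin m) F →* GS m F) := by
  intro s t h
  apply Subtype.ext
  have := congrArg (fun g : GS m F => g.1.1) h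
  exact this

/-- The order of the inner-diagonal group. -/
theorem card_inndiag [Fintype F] [NeZero m] (hm : 2 ≤ m) :
    Nat.card (Cfsg.inndiagPSp m F) = Nat.card (Sp (Fin m) F) := by
  classical
  have h1 := Subgroup.card_mul_index (dlHom : GS m F →* _).ker
  rw [Subgroup.index_ker] at h1
  have h2 := Subgroup.card_mul_index (mu : GS m F →* Fˣ).ker
  rw [Subgroup.index_ker, MonoidHom.range_eq_top_of_surjective _ mu_surjective, Subgroup.card_top] at h2
  have h3 : Nat.card (dlHom : GS m F →* _).ker = Nat.card Fˣ := by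
    symm
    apply Nat.card_congr
    refine Equiv.ofBijective (fun c : Fˣ => (⟨scS c, ?_⟩ : (dlHom : GS m F →* _).ker)) ⟨?_, ?_⟩
    · rw [MonoidHom.mem_ker, dlHom_apply]
      have := gsAut_scS_mul (1 : GS m F) (RingEquiv.refl F) c
      rw [one_mul, gsAut_one] at this
      exact this
    · intro c d h
      exact scS_injective (congrArg Subtype.val h)
    · rintro ⟨g, hg⟩
      rw [MonoidHom.mem_ker, dlHom_apply] at hg
      obtain ⟨-, c, hc⟩ := eq_of_gsAut_eq_one hm hg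
      exact ⟨c, Subtype.ext hc.symm⟩
  have h4 : Nat.card (mu : GS m F →* Fˣ).ker = Nat.card (Sp (Fin m) F) := by
    symm
    apply Nat.card_congr
    refine Equiv.ofBijective (fun s : Sp (Fin m) F => (⟨spG s, ?_⟩ : (mu : GS m F →* Fˣ).ker)) ⟨?_, ?_⟩
    · rw [MonoidHom.mem_ker]
      exact mu_spG s
    · intro s t h
      exact spG_injective (congrArg Subtype.val h)
    · rintro ⟨g, hg⟩
      rw [MonoidHom.mem_ker] at hg
      obtain ⟨s, hs⟩ := exists_spG_of_mu_one g hg
      exact ⟨s, Subtype.ext hs⟩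
  rw [inndiag_eq_range]
  rw [h3] at h1
  rw [h4] at h2
  have h5 : Nat.card Fˣ * Nat.card (dlHom : GS m F →* _).range = Nat.card Fˣ * Nat.card (Sp (Fin m) F) := by
    rw [h1, ← h2, mul_comm]
  exact Nat.eq_of_mul_eq_mul_left Nat.card_pos h5

/-- The parametrisation of the standard automorphisms. -/
noncomputable def phiS (y : ↥(Cfsg.inndiagPSp m F) × (F ≃+* F)) : MulAut (Cfsg.PSp m F) := y.1.1 * faS y.2

lemma phiS_injective [Finite F] [NeZero m] (hm : 2 ≤ m) : Function.Injective (phiS : _ → MulAut (Cfsg.PSp m F)) := by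
  rintro ⟨⟨δ, hδ⟩, σ⟩ ⟨⟨δ', hδ'⟩, τ⟩ h
  obtain ⟨u, rfl⟩ := (mem_inndiag_iff δ).mp hδ
  obtain ⟨v, rfl⟩ := (mem_inndiag_iff δ').mp hδ'
  have h1 : gsAut u σ = gsAut v τ := by
    rw [← dlS_mul_faS, ← dlS_mul_faS]
    exact h
  obtain ⟨rfl, -⟩ := (gsAut_eq_gsAut_iff hm).mp h1
  have h2 : dlS u = dlS v := mul_right_cancel (h : dlS u * faS σ = dlS v * faS σ)
  simp only [Prod.mk.injEq, and_true]
  exact Subtype.ext h2

lemma gsAut_eq_phiS (G : GS m F) (σ : F ≃+* F) : gsAut G σ = phiS (⟨dlS G, dlS_mem_inndiag G⟩, σ) :=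
  (dlS_mul_faS G σ).symm

/-- The order of the automorphism group when all automorphisms are standard. -/
theorem card_of_all [Fintype F] [NeZero m] {p f : ℕ} [Fact p.Prime] (hf : 1 ≤ f) (hF : Fintype.card F = p ^ f) (hm : 2 ≤ m)
    (hall : ∀ β : MulAut (Cfsg.PSp m F), ∃ (G : GS m F) (σ : F ≃+* F), β = gsAut G σ) :
    Nat.card (MulAut (Cfsg.PSp m F)) = Nat.card (Sp (Fin m) F) * f := by
  have hbij : Function.Bijective (phiS : _ → MulAut (Cfsg.PSp m F)) := by
    refine ⟨phiS_injective hm, fun β => ?_⟩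
    obtain ⟨G, σ, rfl⟩ := hall β
    exact ⟨_, (gsAut_eq_phiS G σ).symm⟩
  rw [← Nat.card_congr (Equiv.ofBijective _ hbij), Nat.card_prod, card_inndiag hm,
    Cfsg.Agent.Lib.AutPSL.card_ringAut hF hf]

/-- The order of the automorphism group when the standard automorphisms have index two. -/
theorem card_of_index_two [Fintype F] [NeZero m] {p f : ℕ} [Fact p.Prime] (hf : 1 ≤ f) (hF : Fintype.card F = p ^ f) (hm : 2 ≤ m)
    (α : MulAut (Cfsg.PSp m F)) (hα : ∀ (G : GS m F) (σ : F ≃+* F), α ≠ gsAut G σ)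
    (hall : ∀ β : MulAut (Cfsg.PSp m F), (∃ (G : GS m F) (σ : F ≃+* F), β = gsAut G σ) ∨
      (∃ (G : GS m F) (σ : F ≃+* F), α⁻¹ * β = gsAut G σ)) :
    Nat.card (MulAut (Cfsg.PSp m F)) = 2 * (Nat.card (Sp (Fin m) F) * f) := by
  classical
  let psi : (↥(Cfsg.inndiagPSp m F) × (F ≃+* F)) × Bool → MulAut (Cfsg.PSp m F) :=
    fun y => (if y.2 then α else 1) * phiS y.1
  have hcs : ∀ y y' : ↥(Cfsg.inndiagPSp m F) × (F ≃+* F), phiS y ≠ α * phiS y' := by
    rintro ⟨⟨δ, hδ⟩, σ⟩ ⟨⟨δ', hδ'⟩, τ⟩ h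
    obtain ⟨u, rfl⟩ := (mem_inndiag_iff δ).mp hδ
    obtain ⟨v, rfl⟩ := (mem_inndiag_iff δ').mp hδ'
    have h1 : gsAut u σ = α * gsAut v τ := by
      rw [← dlS_mul_faS, ← dlS_mul_faS]
      exact h
    have h2 : α = gsAut u σ * (gsAut v τ)⁻¹ := by
      rw [h1]
      group
    rw [gsAut_inv, gsAut_mul] at h2
    exact hα _ _ h2
  have hbij : Function.Bijective psi := by
    constructor
    · rintro ⟨y, b⟩ ⟨y', b'⟩ h
      cases b <;> cases b' <;> simp only [psi, if_true, if_false, Bool.false_eq_true, one_mul] at h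
      · rw [phiS_injective hm h]
      · exact absurd h (hcs _ _)
      · exact absurd h.symm (hcs _ _)
      · rw [phiS_injective hm (mul_left_cancel h)]
    · intro β
      rcases hall β with ⟨G, σ, rfl⟩ | ⟨G, σ, h⟩
      · refine ⟨((⟨dlS G, dlS_mem_inndiag G⟩, σ), false), ?_⟩
        simp only [psi, if_false, Bool.false_eq_true, one_mul]
        exact (gsAut_eq_phiS G σ).symm
      · refine ⟨((⟨dlS G, dlS_mem_inndiag G⟩, σ), true), ?_⟩
        simp only [psi, if_true]
        rw [← gsAut_eq_phiS G σ, ← h]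
        group
  rw [← Nat.card_congr (Equiv.ofBijective _ hbij), Nat.card_prod, Nat.card_prod, card_inndiag hm,
    Cfsg.Agent.Lib.AutPSL.card_ringAut hF hf]
  simp only [Nat.card_eq_fintype_card, Fintype.card_bool]
  ring

lemma card_Sp_eq [Fintype F] [NeZero m] :
    Nat.card (Sp (Fin m) F) = Nat.gcd 2 (Fintype.card F - 1) * Nat.card (Cfsg.PSp m F) := by
  haveI : Nonempty (Fin m) := ⟨0⟩
  rw [Subgroup.card_eq_card_quotient_mul_card_subgroup (Subgroup.center (Sp (Fin m) F)),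
    Cfsg.Agent.Lib.SpCenter.card_center, mul_comm]

end Cfsg.Agent.Lib.AutPSp
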