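import Cfsg.Agent.Lib.AutPSp.Lang

/-!
# Automorphisms in characteristic two: the dichotomy between long and short root groups
-/

set_option autoImplicit false

namespace Cfsg.Agent.Lib.AutPSp

open Matrix Cfsg.Agent.Lib.SpBasic Cfsg.Agent.Lib.Hilbert90
open scoped MatrixGroups

variable {F : Type*} [Field F] {m : ℕ}

/-- The computation behind the non-transvection central elements. -/
lemma four_core (h2 : (2 : F) = 0) {z z' : Sp (Fin m) F} {a b : F} {e₀ e₁ u w : Fin m ⊕ Fin m → F}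
    (w01 : ω e₀ e₁ = 0) (w0u : ω e₀ u = 0) (w1u : ω e₁ u = 0) (w0w : ω e₀ w = 1) (w1w : ω e₁ w = 0) (wuw : ω u w = 0)
    (hz : ∀ x, z • x = x + (a * ω e₀ x) • e₀ + b • (ω e₀ x • e₁ + ω e₁ x • e₀))
    (hz' : ∀ x, z' • x = x + (a * ω u x) • u + b • (ω u x • w + ω w x • u)) :
    (z * z') ^ 4 = 1 ∧ ∀ x, ((z * z') ^ 2) • x = x + (b * (a * (ω e₀ x + b * ω u x) + b * ω e₁ x)) • u +
      (a * b * ω u x) • e₀ + (b ^ 2 * ω u x) • e₁ := by
  have hneg : ∀ t : F, - t = t := fun t => by linear_combination (- t) * h2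
  have wue0 : ω u e₀ = 0 := by rw [ω_comm, w0u, neg_zero]
  have wue1 : ω u e₁ = 0 := by rw [ω_comm, w1u, neg_zero]
  have wwe0 : ω w e₀ = 1 := by rw [ω_comm, w0w, hneg]
  have wwe1 : ω w e₁ = 0 := by rw [ω_comm, w1w, neg_zero]
  have wwu : ω w u = 0 := by rw [ω_comm, wuw, neg_zero]
  have we10 : ω e₁ e₀ = 0 := by rw [ω_comm, w01, neg_zero]
  set y : Sp (Fin m) F := z * z' with hy
  have hyf : ∀ x, y • x = x + (a * ω u x + b * ω w x) • u + (b * ω u x) • w +
      (a * (ω e₀ x + b * ω u x) + b * ω e₁ x) • e₀ + (b * (ω e₀ x + b * ω u x)) • e₁ := by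
    intro x
    have h3 : ω e₀ (z' • x) = ω e₀ x + b * ω u x := by
      rw [hz']
      simp only [ω_add_right, ω_smul_right, w0u, w0w]
      ring
    have h4 : ω e₁ (z' • x) = ω e₁ x := by
      rw [hz']
      simp only [ω_add_right, ω_smul_right, w1u, w1w]
      ring
    rw [hy, mul_smul, hz, h3, h4, hz']
    match_scalars <;> ring
  have hv0 : ∀ x, ω e₀ (y • x) = ω e₀ x + b * ω u x := by
    intro x
    rw [hyf]
    simp only [ω_add_right, ω_smul_right, w0u, w0w, ω_self, w01]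
    ring
  have hv1 : ∀ x, ω e₁ (y • x) = ω e₁ x := by
    intro x
    rw [hyf]
    simp only [ω_add_right, ω_smul_right, w1u, w1w, ω_self, we10]
    ring
  have hvu : ∀ x, ω u (y • x) = ω u x := by
    intro x
    rw [hyf]
    simp only [ω_add_right, ω_smul_right, wuw, wue0, wue1, ω_self]
    ring
  have hvw : ∀ x, ω w (y • x) = ω w x + (a * (ω e₀ x + b * ω u x) + b * ω e₁ x) := by
    intro x
    rw [hyf]
    simp only [ω_add_right, ω_smul_right, wwu, wwe0, wwe1, ω_self]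
    ring
  have hy2 : ∀ x, (y ^ 2) • x = x + (b * (a * (ω e₀ x + b * ω u x) + b * ω e₁ x)) • u +
      (a * b * ω u x) • e₀ + (b ^ 2 * ω u x) • e₁ := by
    intro x
    rw [pow_two, mul_smul, hyf (y • x), hv0, hv1, hvu, hvw, hyf x]
    match_scalars
    · ring
    · linear_combination (a * ω u x + b * ω w x) * h2
    · linear_combination (b * ω u x) * h2
    · linear_combination (a * ω e₀ x + b * ω e₁ x + a * b * ω u x) * h2
    · linear_combination (b * ω e₀ x + b ^ 2 * ω u x) * h2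
  refine ⟨?_, hy2⟩
  apply Sp_ext
  intro x
  have e4 : y ^ 4 = y ^ 2 * y ^ 2 := by rw [← pow_add]
  rw [e4, mul_smul, one_smul]
  have v0 : ω e₀ ((y ^ 2) • x) = ω e₀ x := by
    rw [hy2]
    simp only [ω_add_right, ω_smul_right, w0u, ω_self, w01]
    ring
  have v1 : ω e₁ ((y ^ 2) • x) = ω e₁ x := by
    rw [hy2]
    simp only [ω_add_right, ω_smul_right, w1u, ω_self, we10]
    ring
  have vu : ω u ((y ^ 2) • x) = ω u x := by
    rw [hy2]
    simp only [ω_add_right, ω_smul_right, wue0, wue1, ω_self]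
    ring
  rw [hy2 ((y ^ 2) • x), v0, v1, vu, hy2 x]
  match_scalars
  · ring
  · linear_combination (b * (a * (ω e₀ x + b * ω u x) + b * ω e₁ x)) * h2
  · linear_combination (a * b * ω u x) * h2
  · linear_combination (b ^ 2 * ω u x) * h2

/-- Central elements with both parts non-trivial fail the property, for all `m ≥ 2`. -/
lemma exists_order_four_mixed (h2 : (2 : F) = 0) (hm : 2 ≤ m) {z : Sp (Fin m) F} {a b : F} (ha : a ≠ 0) (hb : b ≠ 0)
    (hz : ∀ x, z • x = x + (a * ω (eL ⟨0, by omega⟩ : Fin m ⊕ Fin m → F) x) • (eL ⟨0, by omega⟩ : Fin m ⊕ Fin m → F) +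
        b • (ω (eL ⟨0, by omega⟩ : Fin m ⊕ Fin m → F) x • (eL ⟨1, by omega⟩ : Fin m ⊕ Fin m → F) +
          ω (eL ⟨1, by omega⟩ : Fin m ⊕ Fin m → F) x • (eL ⟨0, by omega⟩ : Fin m ⊕ Fin m → F))) :
    ∃ g : Sp (Fin m) F, (z * (g * z * g⁻¹)) ^ 4 = 1 ∧ (z * (g * z * g⁻¹)) ^ 2 ≠ 1 := by
  classical
  set i₀ : Fin m := ⟨0, by omega⟩ with hi₀
  set i₁ : Fin m := ⟨1, by omega⟩ with hi₁
  have h01 : i₀ ≠ i₁ := by simp [hi₀, hi₁, Fin.ext_iff]
  set e₀ : Fin m ⊕ Fin m → F := eL i₀ with he₀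
  set e₁ : Fin m ⊕ Fin m → F := eL i₁ with he₁
  set w : Fin m ⊕ Fin m → F := eR i₀ with hw
  have hneg : ∀ t : F, - t = t := fun t => by linear_combination (- t) * h2
  have w01 : ω e₀ e₁ = 0 := by rw [he₁, ω_eL_right]; exact eL_inr _ _
  have w0w : ω e₀ w = 1 := by
    rw [hw, ω_eR_right, he₀, eL_inl_same, hneg]
  have w1w : ω e₁ w = 0 := by
    rw [hw, ω_eR_right, he₁, eL_inl_ne h01, neg_zero]
  have we10 : ω e₁ e₀ = 0 := by rw [ω_comm, w01, neg_zero]
  have wwe1 : ω w e₁ = 0 := by rw [ω_comm, w1w, neg_zero]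
  obtain ⟨g, hg⟩ := Cfsg.Agent.Lib.SympWitt.exists_sp_tuple (m := m) (F := F) (n := 2) ![e₀, e₁] ![e₁, w]
    (by
      rw [LinearIndependent.pair_iff]
      intro s t hst
      have h3 := congrFun hst (Sum.inl i₀)
      have h4 := congrFun hst (Sum.inl i₁)
      simp only [Pi.add_apply, Pi.smul_apply, Pi.zero_apply, smul_eq_mul, he₀, he₁, eL_inl_same,
        eL_inl_ne h01, eL_inl_ne h01.symm, mul_one, mul_zero, add_zero, zero_add] at h3 h4
      exact ⟨h3, h4⟩)
    (by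
      rw [LinearIndependent.pair_iff]
      intro s t hst
      have h3 := congrFun hst (Sum.inl i₁)
      have h4 := congrFun hst (Sum.inr i₀)
      simp only [Pi.add_apply, Pi.smul_apply, Pi.zero_apply, smul_eq_mul, he₁, hw, eL_inl_same, eR_inl,
        eL_inr, eR_inr_same, mul_one, mul_zero, add_zero, zero_add] at h3 h4
      exact ⟨h3, h4⟩)
    (by
      intro i j
      change ω _ _ = ω _ _
      fin_cases i <;> fin_cases j <;> simp [ω_self, w01, we10, w1w, wwe1])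
  have hg0 : g • e₀ = e₁ := hg 0
  have hg1 : g • e₁ = w := hg 1
  have hz'f : ∀ x, (g * z * g⁻¹) • x = x + (a * ω e₁ x) • e₁ + b • (ω e₁ x • w + ω w x • e₁) := by
    intro x
    rw [conj_formula hz, hg0, hg1]
  obtain ⟨h4, hy2⟩ := four_core h2 w01 w01 (ω_self _) w0w w1w w1w hz hz'f
  refine ⟨g, h4, ?_⟩
  intro h1
  have h3 : ((z * (g * z * g⁻¹)) ^ 2) • w = w := by rw [h1, one_smul]
  rw [hy2, w0w, w1w] at h3
  have h5 : (b * a) • e₁ = 0 := by
    have h6 := congrFun h3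
    ext k
    have h7 := h6 k
    simp only [Pi.add_apply, Pi.smul_apply, smul_eq_mul, Pi.zero_apply] at h7 ⊢
    simp only [ω_self, mul_zero, zero_mul, add_zero, mul_one] at h7
    have h8 : w k + b * a * e₁ k - w k = 0 := by rw [h7, sub_self]
    linear_combination h8
  have h6 : e₁ ≠ 0 := eL_ne
  exact smul_ne_zero (mul_ne_zero hb ha) h6 h5

/-! ### Short root elements -/

/-- The short root elements in characteristic two. -/
noncomputable def Es (u w : Fin m ⊕ Fin m → F) (b : F) : Sp (Fin m) F := T (u + w) b * T u b * T w b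

lemma Es_smul (h2 : (2 : F) = 0) {u w : Fin m ⊕ Fin m → F} (huw : ω u w = 0) (b : F) (x : Fin m ⊕ Fin m → F) :
    Es u w b • x = x + b • (ω u x • w + ω w x • u) := by
  have wwu : ω w u = 0 := by rw [ω_comm, huw, neg_zero]
  rw [Es, mul_smul, mul_smul, T_smul w, T_smul u, T_smul (u + w)]
  simp only [ω_add_left, ω_add_right, ω_smul_right, ω_self, huw, wwu]
  match_scalars
  · ring
  · linear_combination (b * ω w x) * h2
  · linear_combination (b * ω u x) * h2

/-- The image of a short root element. -/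
noncomputable abbrev sb (u w : Fin m ⊕ Fin m → F) (b : F) : Cfsg.PSp m F := QuotientGroup.mk (Es u w b)

lemma sb_eq (u w : Fin m ⊕ Fin m → F) (b : F) : sb u w b = tb (u + w) b * tb u b * tb w b := by
  rw [sb, Es, QuotientGroup.mk_mul, QuotientGroup.mk_mul]

lemma sb_conj (s : Sp (Fin m) F) (u w : Fin m ⊕ Fin m → F) (b : F) :
    (QuotientGroup.mk s : Cfsg.PSp m F) * sb u w b * (QuotientGroup.mk s)⁻¹ = sb (s • u) (s • w) b := by
  rw [sb_eq, sb_eq, ← smul_add, ← tb_conj s (u + w), ← tb_conj s u, ← tb_conj s w]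
  group

lemma faS_sb [NeZero m] (σ : F ≃+* F) (u w : Fin m ⊕ Fin m → F) (b : F) :
    faS σ (sb u w b) = sb (fm σ u) (fm σ w) (σ b) := by
  have h1 : ∀ (v : Fin m ⊕ Fin m → F) (c : F), faS σ (tb v c) = tb (fm σ v) (σ c) := by
    intro v c
    rw [faS, gsAut_tb]
    have h3 : (1 : GS m F).1.1 = 1 := rfl
    rw [h3, one_mulVec, map_one, Units.val_one, inv_one, mul_one]
  rw [sb_eq, sb_eq, map_mul, map_mul, h1, h1, h1]
  congr 3
  ext i
  simp [fm]

/-! ### The dichotomy -/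

lemma mixed_zero (h2 : (2 : F) = 0) (hm : 2 ≤ m) {z : Sp (Fin m) F} {a b : F} (hP : Pp (QuotientGroup.mk z : Cfsg.PSp m F))
    (hz : ∀ x, z • x = x + (a * ω (eL ⟨0, by omega⟩ : Fin m ⊕ Fin m → F) x) • (eL ⟨0, by omega⟩ : Fin m ⊕ Fin m → F) +
        b • (ω (eL ⟨0, by omega⟩ : Fin m ⊕ Fin m → F) x • (eL ⟨1, by omega⟩ : Fin m ⊕ Fin m → F) +
          ω (eL ⟨1, by omega⟩ : Fin m ⊕ Fin m → F) x • (eL ⟨0, by omega⟩ : Fin m ⊕ Fin m → F))) :
    a = 0 ∨ b = 0 := by
  by_contra hc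
  push Not at hc
  have hm1 : 1 ≤ m := by omega
  obtain ⟨g, hg4, hg2⟩ := exists_order_four_mixed h2 hm hc.1 hc.2 hz
  apply hg2
  have h5 := hP (QuotientGroup.mk g)
  have e : (QuotientGroup.mk z : Cfsg.PSp m F) * ((QuotientGroup.mk g : Cfsg.PSp m F) * QuotientGroup.mk z * (QuotientGroup.mk g)⁻¹) =
      QuotientGroup.mk (z * (g * z * g⁻¹)) := by
    rw [QuotientGroup.mk_mul, QuotientGroup.mk_mul, QuotientGroup.mk_mul, QuotientGroup.mk_inv]
  rw [e, mk_pow_eq_one_iff h2 hm1, mk_pow_eq_one_iff h2 hm1] at h5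
  exact h5 hg4

/-- The central elements of `Uni` describing the images of the root group of the first basis vector. -/
theorem dich_base [Fintype F] {f : ℕ} (hf : 1 ≤ f) (hF : Fintype.card F = 2 ^ f) (h2 : (2 : F) = 0)
    (hm : 2 ≤ m) (β : Cfsg.PSp m F ≃* Cfsg.PSp m F) :
    ∃ t : Sp (Fin m) F,
      (∀ c : F, ∃ a : F, β (tb (eL ⟨0, by omega⟩) c) = tb (t • (eL ⟨0, by omega⟩ : Fin m ⊕ Fin m → F)) a) ∨
      (∀ c : F, ∃ b : F, β (tb (eL ⟨0, by omega⟩) c) =
        (QuotientGroup.mk t : Cfsg.PSp m F) * sb (eL ⟨0, by omega⟩) (eL ⟨1, by omega⟩) b * (QuotientGroup.mk t)⁻¹) := by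
  classical
  have hm1 : 1 ≤ m := by omega
  haveI : Fact (Nat.Prime 2) := ⟨Nat.prime_two⟩
  set e₀ : Fin m ⊕ Fin m → F := eL ⟨0, by omega⟩ with he₀
  set e₁ : Fin m ⊕ Fin m → F := eL ⟨1, by omega⟩ with he₁
  obtain ⟨tb', ht⟩ := exists_conj_central (UniBar m F) (isPGroup_UniBar hF hm1)
    (not_dvd_index_UniBar Nat.prime_two hf hF hm1) β
  obtain ⟨t, rfl⟩ := QuotientGroup.mk_surjective tb'
  have key : ∀ c : F, ∃ (z : Sp (Fin m) F) (a b : F),
      (QuotientGroup.mk z : Cfsg.PSp m F) = (QuotientGroup.mk t)⁻¹ * β (tb e₀ c) * QuotientGroup.mk t ∧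
      ∀ x, z • x = x + (a * ω e₀ x) • e₀ + b • (ω e₀ x • e₁ + ω e₁ x • e₀) := by
    intro c
    have hy1 : tb e₀ c ∈ UniBar m F := mem_UniBar.mpr ⟨_, T_mem_Uni (fun i => eL_inr _ _) c, rfl⟩
    have hy2 : ∀ w ∈ UniBar m F, tb e₀ c * w = w * tb e₀ c := by
      intro w hw
      obtain ⟨s, hs, rfl⟩ := mem_UniBar.mp hw
      rw [tb, ← QuotientGroup.mk_mul, ← QuotientGroup.mk_mul, T_comm_Uni hm1 c hs]
    obtain ⟨hz1, hz2⟩ := ht _ hy1 hy2
    obtain ⟨z, hz, hzb⟩ := mem_UniBar.mp hz1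
    rw [← hzb] at hz2
    have hcent : ∀ w ∈ Uni m F, z * w = w * z := by
      intro w hw
      have h1 := hz2 _ (mem_UniBar.mpr ⟨w, hw, rfl⟩)
      rw [← QuotientGroup.mk_mul, ← QuotientGroup.mk_mul] at h1
      have h2 := QuotientGroup.eq.mp h1
      have h3 : (z * w)⁻¹ * (w * z) ∈ Uni m F :=
        mul_mem (inv_mem (mul_mem hz hw)) (mul_mem hw hz)
      have h5 := eq_one_of_mem_Uni_center hm1 h3 h2
      exact inv_mul_eq_one.mp h5
    obtain ⟨a, b, -, hzf⟩ := central_form hm hz hcent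
    exact ⟨z, a, b, hzb, hzf⟩
  choose z a b hzb hzf using key
  have hPc : ∀ c, Pp ((QuotientGroup.mk t : Cfsg.PSp m F)⁻¹ * β (tb e₀ c) * QuotientGroup.mk t) := fun c =>
    Pp_conj _ (Pp_map β (tb_Pp h2 hm1 _ _))
  have hab : ∀ c, a c = 0 ∨ b c = 0 := by
    intro c
    refine mixed_zero h2 hm ?_ (hzf c)
    rw [hzb]
    exact hPc c
  have hw00 : ω e₀ e₀ = 0 := ω_self _
  have hw01 : ω e₀ e₁ = 0 := by rw [he₁, ω_eL_right]; exact eL_inr _ _
  have hw10 : ω e₁ e₀ = 0 := by rw [ω_comm, hw01, neg_zero]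
  have hw11 : ω e₁ e₁ = 0 := ω_self _
  refine ⟨t, ?_⟩
  by_cases hall : ∀ c, b c = 0
  · left
    intro c
    refine ⟨a c, ?_⟩
    have hzT : z c = T e₀ (a c) := by
      apply Sp_ext
      intro x
      rw [hzf, hall, T_smul, zero_smul, add_zero]
    have h5 := hzb c
    rw [hzT] at h5
    have h6 : tb e₀ (a c) = (QuotientGroup.mk t : Cfsg.PSp m F)⁻¹ * β (tb e₀ c) * QuotientGroup.mk t := h5
    rw [← tb_conj, h6]
    group
  · right
    push Not at hall
    obtain ⟨c₁, hc₁⟩ := hall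
    have ha1 : a c₁ = 0 := (hab c₁).resolve_right hc₁
    have haz : ∀ c, a c = 0 := by
      intro c
      by_contra hac
      have hbc : b c = 0 := (hab c).resolve_left hac
      have hprod : ∀ x, (z c₁ * z c) • x = x + ((a c) * ω e₀ x) • e₀ + (b c₁) • (ω e₀ x • e₁ + ω e₁ x • e₀) := by
        intro x
        rw [mul_smul, hzf c x, hzf c₁, hbc, ha1]
        simp only [ω_add_right, ω_smul_right, hw00, hw01, hw10, hw11]
        match_scalars <;> ring
      have hP : Pp (QuotientGroup.mk (z c₁ * z c) : Cfsg.PSp m F) := by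
        have e : (QuotientGroup.mk (z c₁ * z c) : Cfsg.PSp m F) =
            (QuotientGroup.mk t : Cfsg.PSp m F)⁻¹ * β (tb e₀ (c₁ + c)) * QuotientGroup.mk t := by
          have e2 : tb e₀ (c₁ + c) = tb e₀ c₁ * tb e₀ c := by
            rw [tb, ← T_mul, QuotientGroup.mk_mul]
          rw [QuotientGroup.mk_mul, hzb, hzb, e2, map_mul]
          group
        rw [e]
        exact hPc _
      rcases mixed_zero h2 hm hP hprod with h3 | h3
      · exact hac h3
      · exact hc₁ h3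
    intro c
    refine ⟨b c, ?_⟩
    have hzE : z c = Es e₀ e₁ (b c) := by
      apply Sp_ext
      intro x
      rw [hzf, haz, Es_smul h2 hw01, zero_mul, zero_smul, add_zero]
    have h5 := hzb c
    rw [hzE] at h5
    rw [sb, h5]
    group

/-- The two types of automorphisms, for all vectors. -/
theorem dich [Fintype F] {f : ℕ} (hf : 1 ≤ f) (hF : Fintype.card F = 2 ^ f) (h2 : (2 : F) = 0)
    (hm : 2 ≤ m) (β : Cfsg.PSp m F ≃* Cfsg.PSp m F) :
    (∀ v : Fin m ⊕ Fin m → F, v ≠ 0 → ∃ w : Fin m ⊕ Fin m → F, w ≠ 0 ∧ ∀ c : F, ∃ a : F, β (tb v c) = tb w a) ∨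
    (∀ v : Fin m ⊕ Fin m → F, v ≠ 0 → ∃ g : Sp (Fin m) F, ∀ c : F, ∃ b : F, β (tb v c) =
        (QuotientGroup.mk g : Cfsg.PSp m F) * sb (eL ⟨0, by omega⟩) (eL ⟨1, by omega⟩) b * (QuotientGroup.mk g)⁻¹) := by
  set e₀ : Fin m ⊕ Fin m → F := eL ⟨0, by omega⟩ with he₀
  have he0 : e₀ ≠ 0 := eL_ne
  obtain ⟨t, ht⟩ := dich_base hf hF h2 hm β
  rcases ht with ht | ht
  · left
    intro v hv
    obtain ⟨s, hs⟩ := exists_smul_eq_of_ne_zero he0 hv
    obtain ⟨s', hs'⟩ := QuotientGroup.mk_surjective (β (QuotientGroup.mk s))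
    refine ⟨s' • (t • e₀), ?_, fun c => ?_⟩
    · intro h0
      have h1 : t • e₀ = 0 := by
        have := congrArg (fun x => s'⁻¹ • x) h0
        simpa using this
      apply he0
      have := congrArg (fun x => t⁻¹ • x) h1
      simpa using this
    · obtain ⟨a, ha⟩ := ht c
      refine ⟨a, ?_⟩
      rw [← hs, ← tb_conj, map_mul, map_mul, map_inv, ha, ← hs', tb_conj]
  · right
    intro v hv
    obtain ⟨s, hs⟩ := exists_smul_eq_of_ne_zero he0 hv
    obtain ⟨s', hs'⟩ := QuotientGroup.mk_surjective (β (QuotientGroup.mk s))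
    refine ⟨s' * t, fun c => ?_⟩
    obtain ⟨a, ha⟩ := ht c
    refine ⟨a, ?_⟩
    rw [← hs, ← tb_conj, map_mul, map_mul, map_inv, ha, ← hs', QuotientGroup.mk_mul]
    group
    rfl

lemma tb_injective [Finite F] (hm : 2 ≤ m) {v : Fin m ⊕ Fin m → F} (hv : v ≠ 0) : Function.Injective (tb v : F → Cfsg.PSp m F) := by
  intro c d h
  by_contra hcd
  have h1 : tb v (c + -d) = 1 := by
    rw [tb, ← T_mul, ← T_inv, QuotientGroup.mk_mul, QuotientGroup.mk_inv]
    change tb v c * (tb v d)⁻¹ = 1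
    rw [h, mul_inv_cancel]
  refine tb_ne_one hm hv ?_ h1
  intro h0
  exact hcd (by linear_combination h0)

/-- Conjugates of field automorphisms by automorphisms of the second type map root groups to root groups. -/
theorem root_of_conj [Finite F] [NeZero m] (hm : 2 ≤ m) (σ : F ≃+* F) (α : MulAut (Cfsg.PSp m F))
    (hB : ∀ v : Fin m ⊕ Fin m → F, v ≠ 0 → ∃ g : Sp (Fin m) F, ∀ c : F, ∃ b : F, α (tb v c) =
        (QuotientGroup.mk g : Cfsg.PSp m F) * sb (eL ⟨0, by omega⟩) (eL ⟨1, by omega⟩) b * (QuotientGroup.mk g)⁻¹) :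
    ∀ v : Fin m ⊕ Fin m → F, v ≠ 0 → ∃ w : Fin m ⊕ Fin m → F, w ≠ 0 ∧
      ∀ c : F, ∃ a : F, (α⁻¹ * faS σ * α : MulAut (Cfsg.PSp m F)) (tb v c) = tb w a := by
  intro v hv
  obtain ⟨g, hg⟩ := hB v hv
  choose b hb using hg
  have hbinj : Function.Injective b := by
    intro c d hcd
    have h1 : α (tb v c) = α (tb v d) := by rw [hb, hb, hcd]
    exact tb_injective hm hv (α.injective h1)
  have hbs : Function.Surjective b := Finite.injective_iff_surjective.mp hbinj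
  set Y : Cfsg.PSp m F := faS σ (QuotientGroup.mk g) * (QuotientGroup.mk g)⁻¹ with hY
  obtain ⟨y₀, hy₀⟩ := QuotientGroup.mk_surjective (α⁻¹ Y)
  refine ⟨y₀ • v, ?_, fun c => ?_⟩
  · intro h0
    apply hv
    have := congrArg (fun x => y₀⁻¹ • x) h0
    simpa using this
  · obtain ⟨c', hc'⟩ := hbs (σ (b c))
    refine ⟨c', ?_⟩
    rw [← tb_conj, hy₀]
    change α⁻¹ (faS σ (α (tb v c))) = _
    have h1 : faS σ (α (tb v c)) = Y * α (tb v c') * Y⁻¹ := by
      rw [hb c, hb c', hc', map_mul, map_mul, map_inv, faS_sb, hY]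
      have e0 : fm σ (eL ⟨0, by omega⟩ : Fin m ⊕ Fin m → F) = eL ⟨0, by omega⟩ := fm_single σ _
      have e1 : fm σ (eL ⟨1, by omega⟩ : Fin m ⊕ Fin m → F) = eL ⟨1, by omega⟩ := fm_single σ _
      rw [e0, e1]
      group
    rw [h1, map_mul, map_mul, map_inv]
    have e : α⁻¹ (α (tb v c')) = tb v c' := α.symm_apply_apply _
    rw [e]

/-! ### Inner automorphisms -/

/-- Symplectic elements are conformal with multiplier one. -/
noncomputable def spG : Sp (Fin m) F →* GS m F where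
  toFun s := ⟨⟨s.1, (s⁻¹).1, congrArg Subtype.val (mul_inv_cancel s), congrArg Subtype.val (inv_mul_cancel s)⟩,
    ⟨1, fun u v => by
      have h := mem_symplecticGroup_iff.mp s.2 u v
      rw [Units.val_one, one_mul]
      exact h⟩⟩
  map_one' := by
    apply Subtype.ext
    apply Units.ext
    rfl
  map_mul' s t := by
    apply Subtype.ext
    apply Units.ext
    rfl

lemma spG_coe (s : Sp (Fin m) F) : (spG s : GS m F).1.1 = s.1 := rfl

lemma spG_inv_coe (s : Sp (Fin m) F) : ((spG s : GS m F)⁻¹).1.1 = (s⁻¹).1 := by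
  rw [← map_inv]
  rfl

lemma conj_eq_dlS (s : Sp (Fin m) F) :
    MulAut.conj (QuotientGroup.mk s : Cfsg.PSp m F) = dlS (spG s) := by
  apply MulEquiv.ext
  intro x
  obtain ⟨y, rfl⟩ := QuotientGroup.mk_surjective x
  rw [MulAut.conj_apply, gsAut_mk, ← QuotientGroup.mk_inv, ← QuotientGroup.mk_mul, ← QuotientGroup.mk_mul]
  congr 1

lemma mu_spG [NeZero m] (s : Sp (Fin m) F) : mu (spG s : GS m F) = 1 := by
  apply Units.ext
  apply mu_unique
  intro u v
  rw [spG_coe, mem_symplecticGroup_iff.mp s.2, Units.val_one, one_mul]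

lemma mu_scS [NeZero m] (c : Fˣ) : mu (scS c : GS m F) = c * c := by
  apply Units.ext
  apply mu_unique
  intro u v
  rw [scS_mulVec, scS_mulVec, ω_smul_left, ω_smul_right, Units.val_mul, mul_assoc]

lemma exists_spG_of_mu_one [NeZero m] (G : GS m F) (h : mu G = 1) : ∃ s : Sp (Fin m) F, spG s = G := by
  have hmem : G.1.1 ∈ symplecticGroup (Fin m) F := by
    rw [mem_symplecticGroup_iff]
    intro u v
    rw [mu_form, h, Units.val_one, one_mul]
  refine ⟨⟨G.1.1, hmem⟩, ?_⟩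
  apply Subtype.ext
  apply Units.ext
  rfl

/-- When an inner-diagonal automorphism is inner. -/
lemma dlS_mem_inn_iff [Finite F] [NeZero m] (hm : 2 ≤ m) (k : GS m F) :
    dlS k ∈ Cfsg.Inn (Cfsg.PSp m F) ↔ ∃ a : Fˣ, mu k = a * a := by
  constructor
  · rintro ⟨x, hx⟩
    obtain ⟨s, rfl⟩ := QuotientGroup.mk_surjective x
    rw [conj_eq_dlS] at hx
    have h1 := (gsAut_eq_gsAut_iff hm).mp hx
    obtain ⟨-, c, hc⟩ := h1
    refine ⟨c⁻¹, ?_⟩
    have h := congrArg mu hc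
    rw [mu_spG, map_mul, mu_scS] at h
    have h' : mu k = (c * c)⁻¹ := eq_inv_of_mul_eq_one_left h.symm
    rw [h', mul_inv]
  · rintro ⟨a, ha⟩
    have h1 : mu (k * scS a⁻¹) = 1 := by
      rw [map_mul, mu_scS, ha]
      group
    obtain ⟨s, hs⟩ := exists_spG_of_mu_one _ h1
    refine ⟨QuotientGroup.mk s, ?_⟩
    change MulAut.conj _ = _
    rw [conj_eq_dlS, hs, dlS, dlS, gsAut_scS_mul]

/-- In a finite field of characteristic two, all elements are squares. -/
lemma exists_sq_of_char_two [Finite F] (h2 : (2 : F) = 0) (c : Fˣ) : ∃ a : Fˣ, c = a * a := by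
  classical
  have : Fintype F := Fintype.ofFinite F
  have hinj : Function.Injective (fun a : Fˣ => a * a) := by
    intro a b hab
    have h3 : ((a : F) - b) ^ 2 = 0 := by
      have h4 : (a : F) * a = b * b := congrArg Units.val hab
      linear_combination h4 + (b * (b - a)) * h2
    have h5 : (a : F) - b = 0 := pow_eq_zero_iff (by norm_num) |>.mp h3
    exact Units.ext (sub_eq_zero.mp h5)
  have hs : Function.Surjective (fun a : Fˣ => a * a) := Finite.injective_iff_surjective.mp hinj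
  obtain ⟨a, ha⟩ := hs c
  exact ⟨a, ha.symm⟩

/-- Field automorphism classes are induced by semilinear maps. -/
theorem fieldClass_in_gamma [Fintype F] [NeZero m] (hm : 2 ≤ m) {x : MulAut (Cfsg.PSp m F)}
    (hx : Cfsg.IsFieldAutClassPSp x) :
    ∃ (G : GS m F) (σ : F ≃+* F), σ ≠ RingEquiv.refl F ∧ x = gsAut G σ := by
  classical
  obtain ⟨α, σ, hσ, hxσ⟩ := hx
  rw [isStd_iff] at hxσ
  have hxe : x = α⁻¹ * faS σ * α := by
    rw [← hxσ]
    group
  obtain ⟨p, hpc⟩ := CharP.exists F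
  obtain ⟨n, hp, hn⟩ := FiniteField.card F p
  haveI : Fact p.Prime := ⟨hp⟩
  have hn1 : 1 ≤ (n : ℕ) := n.2
  -- a root-preserving conjugator
  have hA : (∀ v : Fin m ⊕ Fin m → F, v ≠ 0 → ∃ w : Fin m ⊕ Fin m → F, w ≠ 0 ∧ ∀ c : F, ∃ a : F, α (tb v c) = tb w a) →
      ∃ (G : GS m F) (σ : F ≃+* F), σ ≠ RingEquiv.refl F ∧ x = gsAut G σ := by
    intro hr
    obtain ⟨G, τ, hG, hGi⟩ := exists_induced_of_root hm α hr
    have h1 : α = gsAut ⟨G, hG⟩ τ := (isInduced_iff ⟨G, hG⟩ τ α).mp hGi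
    rw [h1, gsAut_inv, faS, gsAut_mul, gsAut_mul] at hxe
    refine ⟨_, _, ?_, hxe⟩
    intro h0
    apply hσ
    have h3 : τ.trans (σ.trans τ.symm) = RingEquiv.refl F := h0
    ext a
    have h4 := congrArg (fun ρ : F ≃+* F => τ (ρ (τ.symm a))) h3
    simpa using h4
  by_cases hex : m = 2 ∧ p = 2
  · obtain ⟨-, rfl⟩ := hex
    have h2 : (2 : F) = 0 := by
      have := CharP.cast_eq_zero F 2
      exact_mod_cast this
    rcases dich hn1 hn h2 hm α with hr | hB
    · exact hA hr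
    · obtain ⟨G, τ, hG, hGi⟩ := exists_induced_of_root hm (α⁻¹ * faS σ * α : MulAut (Cfsg.PSp m F))
        (root_of_conj hm σ α hB)
      have h1 := (isInduced_iff ⟨G, hG⟩ τ _).mp hGi
      rw [← hxe] at h1
      refine ⟨⟨G, hG⟩, τ, ?_, h1⟩
      rintro rfl
      obtain ⟨a, ha⟩ := exists_sq_of_char_two h2 (mu (⟨G, hG⟩ : GS m F))
      have h3 : x ∈ Cfsg.Inn (Cfsg.PSp m F) := by
        rw [h1]
        exact (dlS_mem_inn_iff hm _).mpr ⟨a, ha⟩
      obtain ⟨y, hy⟩ := h3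
      obtain ⟨s, hs⟩ := QuotientGroup.mk_surjective (α y)
      have h4 : (faS σ : MulAut (Cfsg.PSp m F)) = dlS (spG s) := by
        rw [← conj_eq_dlS, hs, ← hxσ, ← hy]
        apply MulEquiv.ext
        intro z
        change α (MulAut.conj y (α⁻¹ z)) = _
        simp only [MulAut.conj_apply, map_mul, map_inv]
        have e : α (α⁻¹ z) = z := α.apply_symm_apply z
        rw [e]
      obtain ⟨h5, -⟩ := (gsAut_eq_gsAut_iff hm).mp h4
      exact hσ h5
  · push Not at hex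
    exact hA (fun v hv => root_map hn1 hn hm hex α hv)

lemma faS_one' : (faS (1 : F ≃+* F) : MulAut (Cfsg.PSp m F)) = 1 := gsAut_one

lemma faS_injective [Finite F] [NeZero m] (hm : 2 ≤ m) :
    Function.Injective (faS : (F ≃+* F) → MulAut (Cfsg.PSp m F)) := by
  intro σ τ h
  exact ((gsAut_eq_gsAut_iff hm).mp h).1

lemma orderOf_faS [Finite F] [NeZero m] (hm : 2 ≤ m) (σ : F ≃+* F) :
    orderOf (faS σ : MulAut (Cfsg.PSp m F)) = orderOf σ := by
  apply orderOf_eq_orderOf_iff.mpr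
  intro k
  rw [faS_pow]
  constructor
  · intro h
    apply faS_injective hm
    rw [h, faS_one']
  · intro h
    rw [h, faS_one']

/-- Field automorphism classes of prime order are conjugate under `Inndiag` to a standard one. -/
theorem exists_of_fieldClass [Fintype F] [NeZero m] (hm : 2 ≤ m) {x : MulAut (Cfsg.PSp m F)}
    (hx : Cfsg.IsFieldAutClassPSp x) {r : ℕ} (hr : r.Prime) (hxr : orderOf x = r) :
    ∃ (u : GS m F) (σ : F ≃+* F), orderOf σ = r ∧ x = dlS u * faS σ * (dlS u)⁻¹ := by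
  obtain ⟨G, σ, hσ, rfl⟩ := fieldClass_in_gamma hm hx
  have h1 : (gsAut G σ) ^ r = 1 := by
    rw [← hxr]
    exact pow_orderOf_eq_one _
  have h2 := h1
  rw [gsAut_pow] at h2
  obtain ⟨h3, -⟩ := eq_of_gsAut_eq_one hm h2
  haveI : Fact r.Prime := ⟨hr⟩
  have hord : orderOf σ = r := orderOf_eq_prime h3 hσ
  obtain ⟨H, hH⟩ := lang_S hm σ hr.pos hord G h1
  exact ⟨H, σ, hord, hH⟩

end Cfsg.Agent.Lib.AutPSp
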