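import Cfsg.Agent.Lib.SpBasic
import Cfsg.Agent.Lib.AutPSL.Semilinear
import Cfsg.Prelude.Def_LieTypeDatum

/-!
# Point maps of the symplectic polar space: a fundamental theorem

A map on non-zero vectors of the symplectic space, well defined and bijective on points, preserving
perpendicularity in both directions, is induced by a semilinear conformal map.
-/

set_option autoImplicit false

namespace Cfsg.Agent.Lib.AutPSp

open Matrix Cfsg.Agent.Lib.SpBasic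
open scoped MatrixGroups

variable {F : Type*} [Field F] {m : ℕ}

/-- Every functional is `ω x`. -/
lemma exists_ω_eq (φ : (Fin m ⊕ Fin m → F) →ₗ[F] F) : ∃ x, ∀ y, ω x y = φ y := by
  classical
  refine ⟨Sum.elim (fun i => - φ (eR i)) (fun i => φ (eL i)), fun y => ?_⟩
  rw [ω_apply, LinearMap.pi_apply_eq_sum_univ φ y, Fintype.sum_sum_type, ← Finset.sum_add_distrib]
  apply Finset.sum_congr rfl
  intro i _
  have h1 : (fun j : Fin m ⊕ Fin m => if Sum.inl i = j then (1 : F) else 0) = eL i := by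
    ext j
    simp [Pi.single_apply, eq_comm]
  have h2 : (fun j : Fin m ⊕ Fin m => if Sum.inr i = j then (1 : F) else 0) = eR i := by
    ext j
    simp [Pi.single_apply, eq_comm]
  rw [h1, h2]
  simp only [Sum.elim_inl, Sum.elim_inr, smul_eq_mul]
  ring

/-- Separation of a vector from a subspace by `ω`. -/
lemma exists_perp {S : Submodule F (Fin m ⊕ Fin m → F)} {u : Fin m ⊕ Fin m → F} (hu : u ∉ S) :
    ∃ x, (∀ s ∈ S, ω x s = 0) ∧ ω x u ≠ 0 := by
  obtain ⟨φ, hφ, hS⟩ := Submodule.exists_le_ker_of_notMem hu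
  obtain ⟨x, hx⟩ := exists_ω_eq φ
  refine ⟨x, fun s hs => ?_, ?_⟩
  · rw [hx]
    exact hS hs
  · rw [hx]
    exact hφ

lemma exists_smul_of_perp {u v : Fin m ⊕ Fin m → F} (h : ∀ x, ω x v = 0 → ω x u = 0) :
    ∃ a : F, u = a • v := by
  by_contra hc
  have hu : u ∉ Submodule.span F {v} := by
    intro hu
    obtain ⟨a, ha⟩ := Submodule.mem_span_singleton.mp hu
    exact hc ⟨a, ha.symm⟩
  obtain ⟨x, hx, hxu⟩ := exists_perp hu
  exact hxu (h x (hx v (Submodule.mem_span_singleton_self v)))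

lemma exists_smul_add_of_perp {u v w : Fin m ⊕ Fin m → F} (h : ∀ x, ω x v = 0 → ω x w = 0 → ω x u = 0) :
    ∃ a b : F, u = a • v + b • w := by
  by_contra hc
  have hu : u ∉ Submodule.span F {v, w} := by
    intro hu
    obtain ⟨a, b, ha⟩ := Submodule.mem_span_pair.mp hu
    exact hc ⟨a, b, ha.symm⟩
  obtain ⟨x, hx, hxu⟩ := exists_perp hu
  exact hxu (h x (hx v (Submodule.subset_span (by simp))) (hx w (Submodule.subset_span (by simp))))

lemma exists_perp_not {v w : Fin m ⊕ Fin m → F} (h : ∀ a : F, w ≠ a • v) :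
    ∃ x, ω x v = 0 ∧ ω x w ≠ 0 := by
  by_contra hc
  push Not at hc
  obtain ⟨a, ha⟩ := exists_smul_of_perp (u := w) (v := v) hc
  exact h a ha

/-- Point maps of the polar space. -/
structure PtMap (f : (Fin m ⊕ Fin m → F) → (Fin m ⊕ Fin m → F)) : Prop where
  ne : ∀ v, v ≠ 0 → f v ≠ 0
  perp : ∀ v w, v ≠ 0 → w ≠ 0 → (ω v w = 0 ↔ ω (f v) (f w) = 0)
  surj : ∀ w, w ≠ 0 → ∃ v, v ≠ 0 ∧ ∃ a : F, a ≠ 0 ∧ f v = a • w

namespace PtMap

variable {f : (Fin m ⊕ Fin m → F) → (Fin m ⊕ Fin m → F)}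

lemma perp_of_image (hf : PtMap f) {x v u : Fin m ⊕ Fin m → F} (hv : v ≠ 0) (hu : u ≠ 0)
    (h : ∀ y, ω y v = 0 → ω y u = 0) (hx : ω x (f v) = 0) : ω x (f u) = 0 := by
  by_cases hx0 : x = 0
  · rw [hx0, ω_zero_left]
  obtain ⟨y, hy, c, hc, hyc⟩ := hf.surj x hx0
  have h1 : ω (f y) (f v) = 0 := by rw [hyc, ω_smul_left, hx, mul_zero]
  have h2 := (hf.perp y v hy hv).mpr h1
  have h3 := (hf.perp y u hy hu).mp (h y h2)
  rw [hyc, ω_smul_left] at h3
  exact (mul_eq_zero.mp h3).resolve_left hc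

lemma exists_smul (hf : PtMap f) {a : F} (ha : a ≠ 0) {v : Fin m ⊕ Fin m → F} (hv : v ≠ 0) :
    ∃ b : F, b ≠ 0 ∧ f (a • v) = b • f v := by
  have hav : a • v ≠ 0 := smul_ne_zero ha hv
  obtain ⟨b, hb⟩ := exists_smul_of_perp (u := f (a • v)) (v := f v) (fun x hx =>
    hf.perp_of_image hv hav (fun y hy => by rw [ω_smul_right, hy, mul_zero]) hx)
  refine ⟨b, ?_, hb⟩
  rintro rfl
  rw [zero_smul] at hb
  exact hf.ne _ hav hb

lemma exists_add (hf : PtMap f) {u v w : Fin m ⊕ Fin m → F} (hu : u ≠ 0) (hv : v ≠ 0) (hw : w ≠ 0)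
    {a b : F} (h : u = a • v + b • w) : ∃ c d : F, f u = c • f v + d • f w := by
  apply exists_smul_add_of_perp
  intro x hx1 hx2
  by_cases hx0 : x = 0
  · rw [hx0, ω_zero_left]
  obtain ⟨y, hy, c, hc, hyc⟩ := hf.surj x hx0
  have h1 : ω (f y) (f v) = 0 := by rw [hyc, ω_smul_left, hx1, mul_zero]
  have h2 : ω (f y) (f w) = 0 := by rw [hyc, ω_smul_left, hx2, mul_zero]
  have h3 := (hf.perp y v hy hv).mpr h1
  have h4 := (hf.perp y w hy hw).mpr h2
  have h5 : ω y u = 0 := by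
    rw [h, ω_add_right, ω_smul_right, ω_smul_right, h3, h4]
    ring
  have h6 := (hf.perp y u hy hu).mp h5
  rw [hyc, ω_smul_left] at h6
  exact (mul_eq_zero.mp h6).resolve_left hc

lemma not_prop (hf : PtMap f) {v w : Fin m ⊕ Fin m → F} (hv : v ≠ 0) (hw : w ≠ 0)
    (h : ∀ a : F, w ≠ a • v) (a : F) : f w ≠ a • f v := by
  intro hfa
  obtain ⟨x, hx, hxw⟩ := exists_perp_not h
  have hx0 : x ≠ 0 := by
    rintro rfl
    exact hxw (ω_zero_left _)
  have h1 := (hf.perp x v hx0 hv).mp hx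
  have h2 : ω (f x) (f w) = 0 := by rw [hfa, ω_smul_right, h1, mul_zero]
  exact hxw ((hf.perp x w hx0 hw).mpr h2)

end PtMap

/-- Proportional forms. -/
lemma exists_conformal (G : Matrix (Fin m ⊕ Fin m) (Fin m ⊕ Fin m) F)
    (h : ∀ x z, ω (G *ᵥ x) (G *ᵥ z) = 0 ↔ ω x z = 0) (i₀ : Fin m) :
    ∃ c : F, c ≠ 0 ∧ ∀ x z, ω (G *ᵥ x) (G *ᵥ z) = c * ω x z := by
  classical
  -- first slot and second slot exchange
  have hslot1 : ∀ x y y', ω (G *ᵥ x) (G *ᵥ y) * ω x y' = ω (G *ᵥ x) (G *ᵥ y') * ω x y := by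
    intro x y y'
    have h1 : ω x (ω x y' • y - ω x y • y') = 0 := by
      rw [ω_sub_right, ω_smul_right, ω_smul_right]
      ring
    have h2 := (h x _).mpr h1
    rw [mulVec_sub, mulVec_smul, mulVec_smul, ω_sub_right, ω_smul_right, ω_smul_right] at h2
    linear_combination h2
  have hslot2 : ∀ x x' y, ω (G *ᵥ x) (G *ᵥ y) * ω x' y = ω (G *ᵥ x') (G *ᵥ y) * ω x y := by
    intro x x' y
    have h1 : ω (ω x' y • x - ω x y • x') y = 0 := by
      rw [ω_sub_left, ω_smul_left, ω_smul_left]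
      ring
    have h2 := (h _ y).mpr h1
    rw [mulVec_sub, mulVec_smul, mulVec_smul, ω_sub_left, ω_smul_left, ω_smul_left] at h2
    linear_combination h2
  set x₀ : Fin m ⊕ Fin m → F := eR i₀ with hx₀
  set y₀ : Fin m ⊕ Fin m → F := eL i₀ with hy₀
  have h00 : ω x₀ y₀ = 1 := ω_eR_eL i₀
  set c := ω (G *ᵥ x₀) (G *ᵥ y₀) with hc
  have hc0 : c ≠ 0 := by
    intro h0
    have := (h x₀ y₀).mp h0
    rw [h00] at this
    exact one_ne_zero this
  refine ⟨c, hc0, ?_⟩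
  -- the ratio agrees when the middle pair is non-degenerate
  have hstep : ∀ x z, ω x z ≠ 0 → ω x₀ z ≠ 0 → ω (G *ᵥ x) (G *ᵥ z) = c * ω x z := by
    intro x z hxz hz
    have h1 := hslot2 x x₀ z
    have h2 := hslot1 x₀ z y₀
    rw [h00, mul_one] at h2
    -- h2 : C(x₀,z) = c * ω x₀ z
    rw [h2] at h1
    have h3 : (ω (G *ᵥ x) (G *ᵥ z) - c * ω x z) * ω x₀ z = 0 := by linear_combination h1
    have h4 := (mul_eq_zero.mp h3).resolve_right hz
    exact sub_eq_zero.mp h4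
  intro x z
  by_cases hxz : ω x z = 0
  · rw [hxz, mul_zero]
    exact (h x z).mpr hxz
  by_cases hz : ω x₀ z = 0
  · -- pass through a good intermediate vector
    have hstep2 : ∀ z', ω x z' ≠ 0 → ω x₀ z' ≠ 0 →
        ω (G *ᵥ x) (G *ᵥ z) = c * ω x z := by
      intro z' h1 h2
      have h3 := hslot1 x z z'
      rw [hstep x z' h1 h2] at h3
      have h4 : (ω (G *ᵥ x) (G *ᵥ z) - c * ω x z) * ω x z' = 0 := by linear_combination h3
      exact sub_eq_zero.mp ((mul_eq_zero.mp h4).resolve_right h1)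
    by_cases hxy : ω x y₀ = 0
    · apply hstep2 (z + y₀)
      · rw [ω_add_right, hxy, add_zero]
        exact hxz
      · rw [ω_add_right, hz, zero_add, h00]
        exact one_ne_zero
    · apply hstep2 y₀ hxy
      rw [h00]
      exact one_ne_zero
  · exact hstep x z hxz hz

/-- Entrywise action of a field automorphism. -/
abbrev fm (σ : F ≃+* F) (v : Fin m ⊕ Fin m → F) : Fin m ⊕ Fin m → F := fun i => σ (v i)

lemma ω_fm (σ : F ≃+* F) (v w : Fin m ⊕ Fin m → F) : ω (fm σ v) (fm σ w) = σ (ω v w) := by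
  rw [ω_apply, ω_apply, map_sum]
  apply Finset.sum_congr rfl
  intro i _
  simp only [fm, map_sub, map_mul]

lemma eR_ne {i₀ : Fin m} : (eR i₀ : Fin m ⊕ Fin m → F) ≠ 0 := by
  intro h
  have := congrFun h (Sum.inr i₀)
  simp at this

lemma eL_ne {i₀ : Fin m} : (eL i₀ : Fin m ⊕ Fin m → F) ≠ 0 := by
  intro h
  have := congrFun h (Sum.inl i₀)
  simp at this

section Core

variable [Finite F] {f : (Fin m ⊕ Fin m → F) → (Fin m ⊕ Fin m → F)}

/-- The hyperplane. -/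
def hH (i₀ : Fin m) : Submodule F (Fin m ⊕ Fin m → F) where
  carrier := {h | ω (eR i₀) h = 0}
  add_mem' := by
    intro a b ha hb
    simp only [Set.mem_setOf_eq] at *
    rw [ω_add_right, ha, hb, add_zero]
  zero_mem' := ω_zero_right _
  smul_mem' := by
    intro c a ha
    simp only [Set.mem_setOf_eq] at *
    rw [ω_smul_right, ha, mul_zero]

lemma mem_hH {i₀ : Fin m} {h : Fin m ⊕ Fin m → F} : h ∈ hH i₀ ↔ ω (eR i₀) h = 0 := Iff.rfl

/-- The affine chart. -/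
noncomputable def phi (f : (Fin m ⊕ Fin m → F) → (Fin m ⊕ Fin m → F)) (i₀ : Fin m) (h : Fin m ⊕ Fin m → F) :
    Fin m ⊕ Fin m → F :=
  (ω (eR i₀) (f (eL i₀ + h)))⁻¹ • f (eL i₀ + h) - eL i₀

variable {i₀ : Fin m}

lemma ee_add_ne {h : Fin m ⊕ Fin m → F} (hh : h ∈ hH i₀) : (eL i₀ + h : Fin m ⊕ Fin m → F) ≠ 0 := by
  intro h0
  have h1 : ω (eR i₀) (eL i₀ + h : Fin m ⊕ Fin m → F) = 1 := by
    rw [ω_add_right, mem_hH.mp hh, add_zero, ω_eR_eL]
  rw [h0, ω_zero_right] at h1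
  exact zero_ne_one h1

lemma scal_ne (hf : PtMap f) (hy : f (eR i₀) = eR i₀) {h : Fin m ⊕ Fin m → F} (hh : h ∈ hH i₀) :
    ω (eR i₀) (f (eL i₀ + h)) ≠ 0 := by
  intro h0
  rw [← hy] at h0
  have h1 := (hf.perp _ _ eR_ne (ee_add_ne hh)).mpr (by rwa [hy] at h0 ⊢)
  rw [ω_add_right, mem_hH.mp hh, add_zero, ω_eR_eL] at h1
  exact one_ne_zero h1

lemma phi_mem (hf : PtMap f) (hy : f (eR i₀) = eR i₀) {h : Fin m ⊕ Fin m → F} (hh : h ∈ hH i₀) :
    phi f i₀ h ∈ hH i₀ := by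
  rw [mem_hH, phi, ω_sub_right, ω_smul_right, inv_mul_cancel₀ (scal_ne hf hy hh), ω_eR_eL, sub_self]

lemma f_mem (hf : PtMap f) (hy : f (eR i₀) = eR i₀) {h : Fin m ⊕ Fin m → F} (hh : h ∈ hH i₀) (h0 : h ≠ 0) :
    f h ∈ hH i₀ := by
  rw [mem_hH]
  have := (hf.perp _ _ eR_ne h0).mp (mem_hH.mp hh)
  rwa [hy] at this

lemma phi_sub (hf : PtMap f) (hy : f (eR i₀) = eR i₀) {h h' : Fin m ⊕ Fin m → F} (hh : h ∈ hH i₀)
    (hh' : h' ∈ hH i₀) (hne : h ≠ h') : ∃ x : F, x ≠ 0 ∧ phi f i₀ h - phi f i₀ h' = x • f (h - h') := by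
  have hs0 : h - h' ≠ 0 := sub_ne_zero.mpr hne
  have hsm : h - h' ∈ hH i₀ := Submodule.sub_mem _ hh hh'
  obtain ⟨c, d, hcd⟩ := hf.exists_add (a := 1) (b := -1) hs0 (ee_add_ne hh) (ee_add_ne hh')
    (by rw [one_smul, neg_one_smul]; abel)
  set r := ω (eR i₀) (f (eL i₀ + h)) with hr
  set r' := ω (eR i₀) (f (eL i₀ + h')) with hr'
  have hr0 : r ≠ 0 := scal_ne hf hy hh
  have hr0' : r' ≠ 0 := scal_ne hf hy hh'
  have hfm := f_mem hf hy hsm hs0
  have h1 : c * r + d * r' = 0 := by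
    have := mem_hH.mp hfm
    rw [hcd, ω_add_right, ω_smul_right, ω_smul_right] at this
    exact this
  have h2 : f (h - h') = (c * r) • (phi f i₀ h - phi f i₀ h') := by
    have h3 : d * r' = - (c * r) := by linear_combination h1
    have e1 : c • f (eL i₀ + h) = (c * r) • (r⁻¹ • f (eL i₀ + h)) := by
      rw [smul_smul, mul_assoc, mul_inv_cancel₀ hr0, mul_one]
    have e2 : d • f (eL i₀ + h') = (d * r') • (r'⁻¹ • f (eL i₀ + h')) := by
      rw [smul_smul, mul_assoc, mul_inv_cancel₀ hr0', mul_one]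
    rw [hcd, e1, e2, h3, phi, phi, ← hr, ← hr', sub_sub_sub_cancel_right, smul_sub, neg_smul]
    abel
  have hcr : c * r ≠ 0 := by
    intro h0
    rw [h0, zero_smul] at h2
    exact hf.ne _ hs0 h2
  refine ⟨(c * r)⁻¹, inv_ne_zero hcr, ?_⟩
  rw [h2, smul_smul, inv_mul_cancel₀ hcr, one_smul]

lemma phi_zero (hf : PtMap f) (he : ∃ c : F, c ≠ 0 ∧ f (eL i₀) = c • eL i₀) : phi f i₀ 0 = 0 := by
  obtain ⟨c, hc, hfe⟩ := he
  rw [phi, add_zero, hfe, ω_smul_right, ω_eR_eL, mul_one, smul_smul, inv_mul_cancel₀ hc, one_smul, sub_self]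

lemma phi_eq (hf : PtMap f) (hy : f (eR i₀) = eR i₀) (he : ∃ c : F, c ≠ 0 ∧ f (eL i₀) = c • eL i₀)
    {h : Fin m ⊕ Fin m → F} (hh : h ∈ hH i₀) (h0 : h ≠ 0) :
    ∃ x : F, x ≠ 0 ∧ phi f i₀ h = x • f h := by
  obtain ⟨x, hx, hxe⟩ := phi_sub hf hy hh (Submodule.zero_mem _) h0
  rw [phi_zero hf he, sub_zero, sub_zero] at hxe
  exact ⟨x, hx, hxe⟩

lemma phi_add_indep (hf : PtMap f) (hy : f (eR i₀) = eR i₀) (he : ∃ c : F, c ≠ 0 ∧ f (eL i₀) = c • eL i₀)
    {h h' : Fin m ⊕ Fin m → F} (hh : h ∈ hH i₀) (hh' : h' ∈ hH i₀) (h0 : h ≠ 0) (h0' : h' ≠ 0)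
    (hind : ∀ a : F, h' ≠ a • h) : phi f i₀ (h + h') = phi f i₀ h + phi f i₀ h' := by
  have hadd : h + h' ∈ hH i₀ := Submodule.add_mem _ hh hh'
  obtain ⟨x₁, hx₁, h1⟩ := phi_sub hf hy hadd hh (by simpa using h0')
  obtain ⟨x₂, hx₂, h2⟩ := phi_sub hf hy hadd hh' (by simpa using h0)
  rw [add_sub_cancel_left] at h1
  rw [add_sub_cancel_right] at h2
  obtain ⟨y₁, hy₁, h3⟩ := phi_eq hf hy he hh h0
  obtain ⟨y₂, hy₂, h4⟩ := phi_eq hf hy he hh' h0'
  -- φ(h+h') - φ h = x₁ f h' , φ(h+h') - φ h' = x₂ f h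
  set a := x₁ * y₂⁻¹ with ha
  set b := x₂ * y₁⁻¹ with hb
  have e1 : phi f i₀ (h + h') = phi f i₀ h + a • phi f i₀ h' := by
    rw [h4, ha, smul_smul, mul_assoc, inv_mul_cancel₀ hy₂, mul_one, ← h1]
    abel
  have e2 : phi f i₀ (h + h') = phi f i₀ h' + b • phi f i₀ h := by
    rw [h3, hb, smul_smul, mul_assoc, inv_mul_cancel₀ hy₁, mul_one, ← h2]
    abel
  by_cases ha1 : a = 1
  · rw [e1, ha1, one_smul]
  · exfalso
    have h5 : (1 - a) • phi f i₀ h' = (1 - b) • phi f i₀ h := by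
      have : phi f i₀ h + a • phi f i₀ h' = phi f i₀ h' + b • phi f i₀ h := e1.symm.trans e2
      rw [sub_smul, sub_smul, one_smul, one_smul, sub_eq_sub_iff_add_eq_add]
      exact this.symm
    have h7 : 1 - a ≠ 0 := sub_ne_zero.mpr (Ne.symm ha1)
    apply hf.not_prop h0 h0' hind ((1 - a)⁻¹ * (1 - b) * y₁ * y₂⁻¹)
    have h8 : y₂ • f h' = ((1 - a)⁻¹ * (1 - b) * y₁) • f h := by
      rw [← h4, mul_smul, mul_smul, ← h3, ← h5, smul_smul, inv_mul_cancel₀ h7, one_smul]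
    have h9 : f h' = y₂⁻¹ • (y₂ • f h') := by rw [smul_smul, inv_mul_cancel₀ hy₂, one_smul]
    rw [h9, h8, smul_smul]
    congr 1
    ring

lemma exists_indep (hm : 2 ≤ m) {h : Fin m ⊕ Fin m → F} (h0 : h ≠ 0) (i₀ : Fin m) :
    ∃ u ∈ hH i₀, u ≠ 0 ∧ ∀ a : F, u ≠ a • h := by
  obtain ⟨i₁, hi₁⟩ : ∃ i₁ : Fin m, i₁ ≠ i₀ := by
    have : Nontrivial (Fin m) := Fin.nontrivial_iff_two_le.mpr hm
    exact exists_ne i₀
  by_cases hy : ∃ a : F, (eR i₀ : Fin m ⊕ Fin m → F) = a • h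
  · refine ⟨eL i₁, ?_, eL_ne, ?_⟩
    · rw [mem_hH, ω_eL_right]
      exact Pi.single_eq_of_ne (fun h => hi₁ (Sum.inr.inj h)) _
    · obtain ⟨a, ha⟩ := hy
      intro b hb
      have ha0 : a ≠ 0 := by
        rintro rfl
        rw [zero_smul] at ha
        exact eR_ne ha
      have hh : h = a⁻¹ • (eR i₀ : Fin m ⊕ Fin m → F) := by
        rw [ha, smul_smul, inv_mul_cancel₀ ha0, one_smul]
      have h1 := congrFun hb (Sum.inl i₁)
      rw [hh] at h1
      simp at h1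
  · push Not at hy
    refine ⟨eR i₀, ?_, eR_ne, hy⟩
    rw [mem_hH, ω_self]

lemma phi_add_zero_right {h : Fin m ⊕ Fin m → F} (hz : phi f i₀ 0 = 0) :
    phi f i₀ (h + 0) = phi f i₀ h + phi f i₀ 0 := by
  rw [hz, add_zero, add_zero]

lemma phi_add (hm : 2 ≤ m) (hf : PtMap f) (hy : f (eR i₀) = eR i₀) (he : ∃ c : F, c ≠ 0 ∧ f (eL i₀) = c • eL i₀)
    {h h' : Fin m ⊕ Fin m → F} (hh : h ∈ hH i₀) (hh' : h' ∈ hH i₀) :
    phi f i₀ (h + h') = phi f i₀ h + phi f i₀ h' := by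
  have hz := phi_zero hf he
  by_cases h0 : h = 0
  · rw [h0, zero_add, hz, zero_add]
  by_cases h0' : h' = 0
  · rw [h0', add_zero, hz, add_zero]
  by_cases hind : ∀ a : F, h' ≠ a • h
  · exact phi_add_indep hf hy he hh hh' h0 h0' hind
  push Not at hind
  obtain ⟨c, rfl⟩ := hind
  have hc : c ≠ 0 := by
    rintro rfl
    exact h0' (zero_smul _ _)
  obtain ⟨u, hu, hu0, hua⟩ := exists_indep hm h0 i₀
  -- φ(h + (c h + u)) two ways
  have hcu : ∀ d : F, d ≠ 0 → ∀ a : F, u ≠ a • (d • h) := by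
    intro d hd a hae
    apply hua (a * d)
    rw [hae, smul_smul]
  have h1 : phi f i₀ ((c • h) + u) = phi f i₀ (c • h) + phi f i₀ u :=
    phi_add_indep hf hy he hh' hu h0' hu0 (hcu c hc)
  have hne : c • h + u ≠ 0 := by
    intro h2
    apply hua (-c)
    rw [neg_smul]
    exact eq_neg_of_add_eq_zero_right h2
  have h2 : phi f i₀ (h + (c • h + u)) = phi f i₀ h + phi f i₀ (c • h + u) := by
    apply phi_add_indep hf hy he hh (Submodule.add_mem _ hh' hu) h0 hne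
    intro a hae
    apply hua (a - c)
    rw [sub_smul, ← hae]
    abel
  have h3 : h + (c • h + u) = (h + c • h) + u := by abel
  by_cases hc1 : (1 : F) + c = 0
  · have h4 : h + c • h = 0 := by
      have : h + c • h = (1 + c) • h := by rw [add_smul, one_smul]
      rw [this, hc1, zero_smul]
    rw [h3, h4, zero_add, h1] at h2
    rw [h4, hz]
    have h5 : phi f i₀ h + phi f i₀ (c • h) = 0 := by
      have : phi f i₀ u = phi f i₀ h + (phi f i₀ (c • h) + phi f i₀ u) := h2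
      have h6 : phi f i₀ h + phi f i₀ (c • h) + phi f i₀ u = phi f i₀ u := by rw [add_assoc]; exact this.symm
      exact add_eq_right.mp h6
    exact h5.symm
  · have h4 : h + c • h = (1 + c) • h := by rw [add_smul, one_smul]
    have h5 : phi f i₀ ((h + c • h) + u) = phi f i₀ (h + c • h) + phi f i₀ u := by
      rw [h4]
      exact phi_add_indep hf hy he (Submodule.smul_mem _ _ hh) hu (smul_ne_zero hc1 h0) hu0 (hcu _ hc1)
    rw [h3, h5, h1] at h2
    have h6 : phi f i₀ (h + c • h) + phi f i₀ u = phi f i₀ h + phi f i₀ (c • h) + phi f i₀ u := by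
      rw [h2, add_assoc]
    exact add_right_cancel h6

/-- The chart is semilinear. -/
lemma exists_sigma (hm : 2 ≤ m) (hf : PtMap f) (hy : f (eR i₀) = eR i₀)
    (he : ∃ c : F, c ≠ 0 ∧ f (eL i₀) = c • eL i₀) :
    ∃ σ : F ≃+* F, ∀ (a : F) {h : Fin m ⊕ Fin m → F}, h ∈ hH i₀ → phi f i₀ (a • h) = σ a • phi f i₀ h := by
  have hz := phi_zero hf he
  let g : ↥(hH i₀) →+ ↥(hH i₀) := AddMonoidHom.mk' (fun h => ⟨phi f i₀ h.1, phi_mem hf hy h.2⟩) (by
    intro a b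
    apply Subtype.ext
    exact phi_add hm hf hy he a.2 b.2)
  have hinj : Function.Injective g := by
    intro a b hab
    by_contra hne
    have hne' : a.1 ≠ b.1 := fun h => hne (Subtype.ext h)
    obtain ⟨x, hx, hxe⟩ := phi_sub hf hy a.2 b.2 hne'
    have h1 : phi f i₀ a.1 = phi f i₀ b.1 := congrArg Subtype.val hab
    rw [h1, sub_self] at hxe
    exact (smul_ne_zero hx (hf.ne _ (sub_ne_zero.mpr hne'))) hxe.symm
  obtain ⟨σ, hσ⟩ := Cfsg.Agent.Lib.AutPSL.semilinear_of_line_pres (F := F) g hinj (by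
    intro a v
    by_cases hv : v = 0
    · subst hv
      exact ⟨0, by simp⟩
    by_cases ha : a = 0
    · subst ha
      exact ⟨0, by simp⟩
    have hv' : v.1 ≠ 0 := fun h => hv (Subtype.ext h)
    obtain ⟨b, hb, hbe⟩ := hf.exists_smul ha hv'
    obtain ⟨x, hx, hxe⟩ := phi_eq hf hy he (Submodule.smul_mem _ a v.2) (smul_ne_zero ha hv')
    obtain ⟨x', hx', hxe'⟩ := phi_eq hf hy he v.2 hv'
    refine ⟨x * b * x'⁻¹, Subtype.ext ?_⟩
    change phi f i₀ (a • v.1) = (x * b * x'⁻¹) • phi f i₀ v.1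
    rw [hxe, hbe, hxe', smul_smul, smul_smul, mul_assoc, inv_mul_cancel₀ hx', mul_one])
    ⟨⟨eR i₀, by rw [mem_hH, ω_self]⟩, fun h => eR_ne (congrArg Subtype.val h)⟩
    (by
      intro v hv
      have hv' : v.1 ≠ 0 := fun h => hv (Subtype.ext h)
      obtain ⟨u, hu, hu0, hua⟩ := exists_indep hm hv' i₀
      refine ⟨⟨u, hu⟩, fun h => hu0 (congrArg Subtype.val h), fun a ha => hua a ?_⟩
      exact congrArg Subtype.val ha)
  refine ⟨σ, fun a h hh => ?_⟩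
  exact congrArg Subtype.val (hσ a ⟨h, hh⟩)

/-- The extension of the chart to the whole space. -/
noncomputable def gg (f : (Fin m ⊕ Fin m → F) → (Fin m ⊕ Fin m → F)) (i₀ : Fin m) (σ : F ≃+* F)
    (v : Fin m ⊕ Fin m → F) : Fin m ⊕ Fin m → F :=
  σ (ω (eR i₀) v) • eL i₀ + phi f i₀ (v - ω (eR i₀) v • eL i₀)

lemma proj_mem (v : Fin m ⊕ Fin m → F) : v - ω (eR i₀) v • eL i₀ ∈ hH i₀ := by
  rw [mem_hH, ω_sub_right, ω_smul_right, ω_eR_eL, mul_one, sub_self]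

lemma gg_add (hm : 2 ≤ m) (hf : PtMap f) (hy : f (eR i₀) = eR i₀) (he : ∃ c : F, c ≠ 0 ∧ f (eL i₀) = c • eL i₀)
    (σ : F ≃+* F) (v w : Fin m ⊕ Fin m → F) : gg f i₀ σ (v + w) = gg f i₀ σ v + gg f i₀ σ w := by
  rw [gg, gg, gg, ω_add_right, map_add, add_smul]
  have h1 : v + w - (ω (eR i₀) v + ω (eR i₀) w) • eL i₀ =
      (v - ω (eR i₀) v • eL i₀) + (w - ω (eR i₀) w • eL i₀) := by
    rw [add_smul]
    abel
  rw [h1, phi_add hm hf hy he (proj_mem v) (proj_mem w)]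
  abel

lemma gg_smul (hf : PtMap f) {σ : F ≃+* F}
    (hσ : ∀ (a : F) {h : Fin m ⊕ Fin m → F}, h ∈ hH i₀ → phi f i₀ (a • h) = σ a • phi f i₀ h)
    (a : F) (v : Fin m ⊕ Fin m → F) : gg f i₀ σ (a • v) = σ a • gg f i₀ σ v := by
  rw [gg, gg, ω_smul_right, map_mul, smul_add, smul_smul]
  have h1 : a • v - (a * ω (eR i₀) v) • eL i₀ = a • (v - ω (eR i₀) v • eL i₀) := by
    rw [smul_sub, smul_smul]
  rw [h1, hσ a (proj_mem v)]

/-- The extension is proportional to `f`. -/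
lemma f_eq_smul_gg (hf : PtMap f) (hy : f (eR i₀) = eR i₀) (he : ∃ c : F, c ≠ 0 ∧ f (eL i₀) = c • eL i₀)
    {σ : F ≃+* F}
    (hσ : ∀ (a : F) {h : Fin m ⊕ Fin m → F}, h ∈ hH i₀ → phi f i₀ (a • h) = σ a • phi f i₀ h)
    {v : Fin m ⊕ Fin m → F} (hv : v ≠ 0) : ∃ a : F, a ≠ 0 ∧ f v = a • gg f i₀ σ v := by
  set l := ω (eR i₀) v with hl
  by_cases hl0 : l = 0
  · have hvm : v ∈ hH i₀ := hl0
    rw [gg, ← hl, hl0, map_zero, zero_smul, zero_add, sub_zero]
    obtain ⟨x, hx, hxe⟩ := phi_eq hf hy he hvm hv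
    refine ⟨x⁻¹, inv_ne_zero hx, ?_⟩
    rw [hxe, smul_smul, inv_mul_cancel₀ hx, one_smul]
  · -- v = l (e + h')
    set h' : Fin m ⊕ Fin m → F := l⁻¹ • v - eL i₀ with hh'
    have hmem : h' ∈ hH i₀ := by
      rw [mem_hH, hh', ω_sub_right, ω_smul_right, ← hl, inv_mul_cancel₀ hl0, ω_eR_eL, sub_self]
    have hve : v = l • (eL i₀ + h') := by
      rw [hh', add_sub_cancel, smul_smul, mul_inv_cancel₀ hl0, one_smul]
    have hproj : v - l • eL i₀ = l • h' := by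
      rw [hh', smul_sub, smul_smul, mul_inv_cancel₀ hl0, one_smul]
    obtain ⟨b, hb, hbe⟩ := hf.exists_smul hl0 (ee_add_ne hmem)
    have hr := scal_ne hf hy hmem
    set r := ω (eR i₀) (f (eL i₀ + h')) with hr'
    have hphi : phi f i₀ h' = r⁻¹ • f (eL i₀ + h') - eL i₀ := rfl
    have hfe : f (eL i₀ + h') = r • (eL i₀ + phi f i₀ h') := by
      have h9 : eL i₀ + (r⁻¹ • f (eL i₀ + h') - eL i₀) = r⁻¹ • f (eL i₀ + h') := add_sub_cancel _ _
      rw [hphi, h9, smul_smul, mul_inv_cancel₀ hr, one_smul]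
    have hσl : σ l ≠ 0 := by
      intro h0
      exact hl0 ((map_eq_zero_iff σ σ.injective).mp h0)
    refine ⟨b * r * (σ l)⁻¹, mul_ne_zero (mul_ne_zero hb hr) (inv_ne_zero hσl), ?_⟩
    rw [gg, ← hl, hproj, hσ l hmem]
    conv_lhs => rw [hve, hbe, hfe]
    rw [← smul_add, smul_smul, smul_smul, mul_assoc (b * r), inv_mul_cancel₀ hσl, mul_one]

/-- The normalised form of the theorem. -/
theorem core (hm : 2 ≤ m) (hf : PtMap f) (hy : f (eR i₀) = eR i₀)
    (he : ∃ c : F, c ≠ 0 ∧ f (eL i₀) = c • eL i₀) :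
    ∃ (G : GL (Fin m ⊕ Fin m) F) (σ : F ≃+* F) (c : F), c ≠ 0 ∧
      (∀ x z, ω (G.1 *ᵥ x) (G.1 *ᵥ z) = c * ω x z) ∧
      ∀ v : Fin m ⊕ Fin m → F, v ≠ 0 → ∃ a : F, a ≠ 0 ∧ f v = a • (G.1 *ᵥ fm σ v) := by
  classical
  obtain ⟨σ, hσ⟩ := exists_sigma hm hf hy he
  have hadd := gg_add hm hf hy he σ
  have hsmul := gg_smul (i₀ := i₀) hf hσ
  let L : (Fin m ⊕ Fin m → F) →ₗ[F] (Fin m ⊕ Fin m → F) :=
    { toFun := fun x => gg f i₀ σ (fm σ.symm x)
      map_add' := by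
        intro x y
        rw [← hadd]
        congr 1
        ext i
        simp [fm]
      map_smul' := by
        intro a x
        have h1 : fm σ.symm (a • x) = σ.symm a • fm σ.symm x := by
          ext i
          simp [fm]
        simp only [RingHom.id_apply]
        rw [h1, hsmul, RingEquiv.apply_symm_apply] }
  have hfm_symm : ∀ v : Fin m ⊕ Fin m → F, fm σ.symm (fm σ v) = v := by
    intro v
    ext i
    simp [fm]
  have hfm_symm' : ∀ v : Fin m ⊕ Fin m → F, fm σ (fm σ.symm v) = v := by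
    intro v
    ext i
    simp [fm]
  have hfm_ne : ∀ v : Fin m ⊕ Fin m → F, v ≠ 0 → fm σ.symm v ≠ 0 := by
    intro v hv h0
    apply hv
    rw [← hfm_symm' v, h0]
    ext i
    simp [fm]
  have hLv : ∀ v, L (fm σ v) = gg f i₀ σ v := by
    intro v
    change gg f i₀ σ (fm σ.symm (fm σ v)) = _
    rw [hfm_symm]
  set M := LinearMap.toMatrix' L with hM
  have hMv : ∀ x, M *ᵥ x = L x := fun x => LinearMap.toMatrix'_mulVec L x
  have hgne : ∀ v, v ≠ 0 → gg f i₀ σ v ≠ 0 := by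
    intro v hv h0
    obtain ⟨a, -, hae⟩ := f_eq_smul_gg hf hy he hσ hv
    rw [h0, smul_zero] at hae
    exact hf.ne v hv hae
  have hinj : Function.Injective M.mulVec := by
    intro a b hab
    by_contra hne
    have hx0 : a - b ≠ 0 := sub_ne_zero.mpr hne
    have h1 : M *ᵥ (a - b) = 0 := by
      rw [mulVec_sub]
      exact sub_eq_zero.mpr hab
    rw [hMv] at h1
    exact hgne _ (hfm_ne _ hx0) h1
  have hunit : IsUnit M := Matrix.mulVec_injective_iff_isUnit.mp hinj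
  let G : GL (Fin m ⊕ Fin m) F := hunit.unit
  have hG : G.1 = M := rfl
  have hperp : ∀ x z, ω (M *ᵥ x) (M *ᵥ z) = 0 ↔ ω x z = 0 := by
    intro x z
    by_cases hx0 : x = 0
    · subst hx0
      simp [ω_zero_left]
    by_cases hz0 : z = 0
    · subst hz0
      simp [ω_zero_right]
    have hx1 := hfm_ne x hx0
    have hz1 := hfm_ne z hz0
    obtain ⟨a, ha, hae⟩ := f_eq_smul_gg hf hy he hσ hx1
    obtain ⟨b, hb, hbe⟩ := f_eq_smul_gg hf hy he hσ hz1
    have e1 : M *ᵥ x = gg f i₀ σ (fm σ.symm x) := hMv x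
    have e2 : M *ᵥ z = gg f i₀ σ (fm σ.symm z) := hMv z
    have h3 := hf.perp _ _ hx1 hz1
    rw [hae, hbe, ω_smul_left, ω_smul_right, ← mul_assoc, mul_eq_zero, or_iff_right (mul_ne_zero ha hb),
      ← e1, ← e2] at h3
    rw [← h3, ← map_eq_zero_iff σ σ.injective, ← ω_fm, hfm_symm', hfm_symm']
  obtain ⟨c, hc, hce⟩ := exists_conformal M hperp i₀
  refine ⟨G, σ, c, hc, ?_, ?_⟩
  · rw [hG]
    exact hce
  · intro v hv
    obtain ⟨a, ha, hae⟩ := f_eq_smul_gg hf hy he hσ hv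
    refine ⟨a, ha, ?_⟩
    rw [hae, hG, hMv, hLv]

/-- The fundamental theorem. -/
theorem fund (hm : 2 ≤ m) (hf : PtMap f) :
    ∃ (G : GL (Fin m ⊕ Fin m) F) (σ : F ≃+* F), G ∈ Cfsg.GSp m F ∧
      ∀ v : Fin m ⊕ Fin m → F, v ≠ 0 → ∃ a : F, a ≠ 0 ∧ f v = a • (G.1 *ᵥ fm σ v) := by
  classical
  let i₀ : Fin m := ⟨0, by omega⟩
  set e : Fin m ⊕ Fin m → F := eL i₀ with he
  set y : Fin m ⊕ Fin m → F := eR i₀ with hy
  have hy0 : y ≠ 0 := eR_ne
  have he0 : e ≠ 0 := eL_ne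
  have hye : ω y e = 1 := ω_eR_eL i₀
  have hne : ω (f y) (f e) ≠ 0 := by
    intro h0
    have := (hf.perp y e hy0 he0).mpr h0
    rw [hye] at this
    exact one_ne_zero this
  set c := ω (f y) (f e) with hc
  have h1 : ω (f y) (c⁻¹ • f e) = 1 := by
    rw [ω_smul_right, ← hc, inv_mul_cancel₀ hne]
  obtain ⟨s, -, hs1, hs2⟩ := exists_mem_G_pair (top_nondeg (l := Fin m) (F := F)) (x := f y) (y := c⁻¹ • f e)
    (x' := y) (y' := e) trivial trivial trivial trivial h1 hye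
  -- the normalised map
  have hf' : PtMap (fun v => s • f v) := by
    refine ⟨fun v hv h0 => hf.ne v hv ?_, fun v w hv hw => ?_, fun w hw => ?_⟩
    · have := congrArg (fun x => s⁻¹ • x) h0
      simpa using this
    · simp only [ω_smul_smul]
      exact hf.perp v w hv hw
    · have hw' : s⁻¹ • w ≠ 0 := by
        intro h0
        apply hw
        have := congrArg (fun x => s • x) h0
        simpa using this
      obtain ⟨v, hv, a, ha, hae⟩ := hf.surj _ hw'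
      refine ⟨v, hv, a, ha, ?_⟩
      change s • f v = a • w
      rw [hae, smul_comm, smul_inv_smul]
  have hey : s • f y = y := hs1
  have hee : s • f e = c • e := by
    have h3 : c • (c⁻¹ • f e) = f e := by rw [smul_smul, mul_inv_cancel₀ hne, one_smul]
    calc s • f e = s • (c • (c⁻¹ • f e)) := by rw [h3]
      _ = c • (s • (c⁻¹ • f e)) := smul_comm _ _ _
      _ = c • e := by rw [hs2]
  obtain ⟨G, σ, d, hd, hGc, hGf⟩ := core (i₀ := i₀) hm hf' hey ⟨c, hne, hee⟩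
  -- the element of `GL` attached to `s`
  have hsu : IsUnit (s⁻¹).1 := by
    have h2 : (s⁻¹).1 * s.1 = 1 := by
      exact congrArg Subtype.val (inv_mul_cancel s)
    exact IsUnit.of_mul_eq_one _ h2
  let S : GL (Fin m ⊕ Fin m) F := hsu.unit
  have hS : S.1 = (s⁻¹).1 := rfl
  refine ⟨S * G, σ, ⟨Units.mk0 d hd, ?_⟩, ?_⟩
  · intro u v
    have e1 : ∀ x, (S * G).1 *ᵥ x = s⁻¹ • (G.1 *ᵥ x) := by
      intro x
      rw [Units.val_mul, ← mulVec_mulVec, hS, Sp_smul_def]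
    change ω ((S * G).1 *ᵥ u) ((S * G).1 *ᵥ v) = d * ω u v
    rw [e1, e1, ω_smul_smul, hGc]
  · intro v hv
    obtain ⟨a, ha, hae⟩ := hGf v hv
    refine ⟨a, ha, ?_⟩
    have h2 : f v = s⁻¹ • (a • (G.1 *ᵥ fm σ v)) := by
      rw [← hae]
      simp
    rw [h2, smul_comm, Units.val_mul, ← mulVec_mulVec, hS, Sp_smul_def]

end Core

end Cfsg.Agent.Lib.AutPSp
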