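import Cfsg.Agent.Lib.AutPSp.Auts
import Cfsg.Agent.Lib.AutPSL.FormClass

/-!
# Lang-type conjugacy for semilinear conformal maps
-/

set_option autoImplicit false

namespace Cfsg.Agent.Lib.AutPSp

open Matrix Cfsg.Agent.Lib.SpBasic Cfsg.Agent.Lib.Hilbert90
open scoped MatrixGroups

variable {F : Type*} [Field F] {m : ℕ}

lemma glS_mul_apply (σ τ : F ≃+* F) (x : GS m F) : glS (σ * τ) x = glS σ (glS τ x) := by
  apply Subtype.ext
  apply Units.ext
  ext i j
  rfl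

lemma glS_one_apply (x : GS m F) : glS (1 : F ≃+* F) x = x := glS_refl x

/-- The norm of a conformal matrix. -/
noncomputable def nrmS (σ : F ≃+* F) (G : GS m F) : ℕ → GS m F
  | 0 => 1
  | k + 1 => G * glS σ (nrmS σ G k)

@[simp] lemma nrmS_zero (σ : F ≃+* F) (G : GS m F) : nrmS σ G 0 = 1 := rfl

lemma nrmS_succ (σ : F ≃+* F) (G : GS m F) (k : ℕ) : nrmS σ G (k + 1) = G * glS σ (nrmS σ G k) := rfl

lemma nrmS_succ' (σ : F ≃+* F) (G : GS m F) (k : ℕ) :
    nrmS σ G (k + 1) = nrmS σ G k * glS (σ ^ k) G := by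
  induction k with
  | zero =>
    rw [nrmS_succ, nrmS_zero, map_one, mul_one, one_mul, pow_zero, glS_one_apply]
  | succ k ih =>
    rw [nrmS_succ σ G (k + 1), ih, map_mul, ← glS_mul_apply, ← pow_succ', ← ih, nrmS_succ, mul_assoc]

lemma gsAut_pow (G : GS m F) (σ : F ≃+* F) (k : ℕ) :
    (gsAut G σ) ^ k = gsAut (nrmS σ G k) (σ ^ k) := by
  induction k with
  | zero =>
    rw [pow_zero, pow_zero, nrmS_zero]
    exact gsAut_one.symm
  | succ k ih =>
    rw [pow_succ', ih, gsAut_mul, nrmS_succ, pow_succ']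
    rfl

lemma scS_comm (u : Fˣ) (x : GS m F) : scS u * x = x * scS u := by
  apply Subtype.ext
  apply Units.ext
  change (scS u : GS m F).1.1 * x.1.1 = x.1.1 * (scS u : GS m F).1.1
  rw [scS_coe, Matrix.smul_mul, Matrix.mul_smul, Matrix.one_mul, Matrix.mul_one]

lemma scS_injective [NeZero m] {c d : Fˣ} (h : (scS c : GS m F) = scS d) : c = d := by
  have h1 : (scS c : GS m F).1.1 = (scS d : GS m F).1.1 := by rw [h]
  rw [scS_coe, scS_coe] at h1
  have h2 := congrFun (congrFun h1 (Sum.inl 0)) (Sum.inl 0)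
  simp only [Matrix.smul_apply, Matrix.one_apply_eq, smul_eq_mul, mul_one] at h2
  exact Units.ext h2

lemma nrmS_mul_scS (σ : F ≃+* F) (G : GS m F) (d : Fˣ) (k : ℕ) :
    ∃ e : Fˣ, (e : F) = pnorm σ (d : F) k ∧ nrmS σ (G * scS d) k = nrmS σ G k * scS e := by
  induction k with
  | zero =>
    refine ⟨1, by simp, ?_⟩
    rw [nrmS_zero, nrmS_zero, one_mul]
    apply Subtype.ext
    apply Units.ext
    change (1 : Matrix _ _ F) = (scS 1 : GS m F).1.1
    rw [scS_coe]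
    simp
  | succ k ih =>
    obtain ⟨e, he, hk⟩ := ih
    refine ⟨d * Units.map (σ : F →* F) e, ?_, ?_⟩
    · rw [Units.val_mul, ← mul_map_pnorm, ← he]
      rfl
    · rw [nrmS_succ, hk, map_mul, glS_scS, nrmS_succ, scS_mul]
      calc G * scS d * (glS σ (nrmS σ G k) * scS (Units.map (σ : F →* F) e))
          = G * (scS d * glS σ (nrmS σ G k)) * scS (Units.map (σ : F →* F) e) := by group
        _ = G * (glS σ (nrmS σ G k) * scS d) * scS (Units.map (σ : F →* F) e) := by rw [scS_comm]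
        _ = _ := by group

lemma conj_dlS (h g : GS m F) (σ : F ≃+* F) :
    dlS h * gsAut g σ * (dlS h)⁻¹ = gsAut (h * g * glS σ h⁻¹) σ := by
  rw [dlS_inv, dlS, dlS, gsAut_mul, gsAut_mul, glS_refl]
  congr 1

/-! ### The matrix form of the conformal condition -/

lemma transpose_form [NeZero m] (G : GS m F) :
    G.1.1ᵀ * J (Fin m) F * G.1.1 = ((mu G : Fˣ) : F) • J (Fin m) F := by
  ext i j
  have h1 := mu_form G (Pi.single i 1) (Pi.single j 1)
  rw [ω_eq_transpose, ω] at h1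
  simpa using h1

lemma mem_GSp_of_transpose (G : GL (Fin m ⊕ Fin m) F) (e : Fˣ)
    (h : G.1ᵀ * J (Fin m) F * G.1 = (e : F) • J (Fin m) F) : G ∈ Cfsg.GSp m F := by
  refine ⟨e, fun u v => ?_⟩
  change ω (G.1 *ᵥ u) (G.1 *ᵥ v) = _ * ω u v
  rw [ω_eq_transpose, h, smul_mulVec, dotProduct_smul, ω]
  rfl

/-- Uniqueness of alternating forms, in matrix form, with `J` as the standard form. -/
lemma exists_darboux {k : Type*} [Field k] (A : Matrix (Fin m ⊕ Fin m) (Fin m ⊕ Fin m) k)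
    (hA : ∀ v, v ⬝ᵥ (A *ᵥ v) = 0) (hd : A.det ≠ 0) :
    ∃ P : GL (Fin m ⊕ Fin m) k, P.1 * A * P.1ᵀ = J (Fin m) k := by
  classical
  let e : Fin m ⊕ Fin m ≃ Fin (m + m) := finSumFinEquiv
  have halt : ∀ (M : Matrix (Fin m ⊕ Fin m) (Fin m ⊕ Fin m) k), (∀ v, v ⬝ᵥ (M *ᵥ v) = 0) →
      ∀ w : Fin (m + m) → k, w ⬝ᵥ ((M.submatrix e.symm e.symm) *ᵥ w) = 0 := by
    intro M hM w
    have h1 := hM (w ∘ e)
    have h2 : w ⬝ᵥ ((M.submatrix e.symm e.symm) *ᵥ w) = (w ∘ e) ⬝ᵥ (M *ᵥ (w ∘ e)) := by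
      rw [Matrix.submatrix_mulVec_equiv]
      simp only [dotProduct, Function.comp_apply]
      rw [← Equiv.sum_comp e]
      simp
    rw [h2, h1]
  have hJ : ∀ v : Fin m ⊕ Fin m → k, v ⬝ᵥ (J (Fin m) k *ᵥ v) = 0 := fun v => ω_self v
  have hdJ : (J (Fin m) k).det ≠ 0 := (Matrix.isUnit_det_J (Fin m) k).ne_zero
  obtain ⟨P', hP'⟩ := Cfsg.Agent.Lib.AutPSL.exists_congr_alt (A.submatrix e.symm e.symm)
    ((J (Fin m) k).submatrix e.symm e.symm) (halt A hA) (halt _ hJ)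
    (by rwa [Matrix.det_submatrix_equiv_self]) (by rwa [Matrix.det_submatrix_equiv_self])
  refine ⟨(Cfsg.Agent.Lib.AutPSL.rG e).symm P', ?_⟩
  rw [Cfsg.Agent.Lib.AutPSL.rG_symm_coe]
  have h1 := congrArg (fun M => M.submatrix e e) hP'
  simp only [Matrix.submatrix_submatrix] at h1
  have h3 : (J (Fin m) k).submatrix (e.symm ∘ e) (e.symm ∘ e) = J (Fin m) k := by
    ext i j
    simp
  rw [h3] at h1
  rw [← h1]
  ext i j
  simp only [Matrix.mul_apply, Matrix.submatrix_apply, Matrix.transpose_apply, Function.comp_apply]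
  rw [← Equiv.sum_comp e]
  apply Finset.sum_congr rfl
  intro l _
  congr 1
  rw [← Equiv.sum_comp e]
  apply Finset.sum_congr rfl
  intro l' _
  simp

/-- Descent of a semi-invariant alternating form to the fixed field. -/
theorem exists_fixed_conformal (σ : F ≃+* F) {r : ℕ} (hr : 0 < r) (hord : orderOf σ = r)
    (h : GL (Fin m ⊕ Fin m) F) {c : F} (hc : ∀ i j, σ ((h.1ᵀ * J (Fin m) F * h.1) i j) = c * (h.1ᵀ * J (Fin m) F * h.1) i j) [NeZero m] :
    ∃ Q : GL (Fin m ⊕ Fin m) F, Q.1.map σ = Q.1 ∧ h * Q ∈ Cfsg.GSp m F := by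
  classical
  have hσr : σ ^ r = 1 := by rw [← hord]; exact pow_orderOf_eq_one σ
  set B := h.1ᵀ * J (Fin m) F * h.1 with hB
  have hdB : B.det ≠ 0 := by
    rw [hB, Matrix.det_mul, Matrix.det_mul, Matrix.det_transpose]
    have h1 : h.1.det ≠ 0 := (Matrix.isUnit_iff_isUnit_det _).mp h.isUnit |>.ne_zero
    exact mul_ne_zero (mul_ne_zero h1 (Matrix.isUnit_det_J (Fin m) F).ne_zero) h1
  have hne : Nonempty (Fin m ⊕ Fin m) := ⟨Sum.inl 0⟩
  obtain ⟨i₀, j₀, hij⟩ : ∃ i j, B i j ≠ 0 := by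
    by_contra hcon
    push Not at hcon
    apply hdB
    have : B = 0 := by
      ext i j
      exact hcon i j
    rw [this]
    exact Matrix.det_zero
  have hN := pnorm_eq_one_of_fixed σ hσr hij (hc i₀ j₀)
  obtain ⟨d, hd, hcd⟩ := exists_of_pnorm_eq_one σ hr hord hN
  -- the fixed form
  have hfix : ∀ i j, d * B i j ∈ fixedF σ := by
    intro i j
    rw [mem_fixedF, map_mul, hc]
    linear_combination (B i j) * hcd
  let A : Matrix (Fin m ⊕ Fin m) (Fin m ⊕ Fin m) (fixedF σ) := fun i j => ⟨d * B i j, hfix i j⟩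
  let ι : fixedF σ →+* F := (fixedF σ).subtype
  have hιinj : Function.Injective ι := ι.injective
  have hAm : A.map ι = d • B := by
    ext i j
    rfl
  have hAalt : ∀ v, v ⬝ᵥ (A *ᵥ v) = 0 := by
    intro v
    apply hιinj
    have h3 : ι ∘ (A *ᵥ v) = (A.map ι) *ᵥ (ι ∘ v) := by
      ext i
      exact RingHom.map_mulVec ι A v i
    rw [map_zero, RingHom.map_dotProduct, h3, hAm, smul_mulVec, dotProduct_smul, hB]
    set v' : Fin m ⊕ Fin m → F := ι ∘ v with hv'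
    have h1 : v' ⬝ᵥ ((h.1ᵀ * J (Fin m) F * h.1) *ᵥ v') = ω (h.1 *ᵥ v') (h.1 *ᵥ v') := (ω_eq_transpose _ _ _).symm
    rw [h1, ω_self, smul_zero]
  have hAdet : A.det ≠ 0 := by
    intro h0
    have h1 : (A.map ι).det = ι A.det := (RingHom.map_det ι A).symm
    rw [hAm, h0, map_zero, Matrix.det_smul] at h1
    exact (mul_ne_zero (pow_ne_zero _ hd) hdB) h1
  obtain ⟨P, hP⟩ := exists_darboux A hAalt hAdet
  -- the element of `GL` over `F`
  have hPm : ((Matrix.GeneralLinearGroup.map ι P : GL (Fin m ⊕ Fin m) F) : Matrix _ _ F) = P.1.map ι := rfl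
  let PF : GL (Fin m ⊕ Fin m) F := Matrix.GeneralLinearGroup.map ι P
  let Q : GL (Fin m ⊕ Fin m) F :=
    { val := PF.1ᵀ
      inv := (PF⁻¹).1ᵀ
      val_inv := by
        rw [← Matrix.transpose_mul, ← Units.val_mul, inv_mul_cancel, Units.val_one, Matrix.transpose_one]
      inv_val := by
        rw [← Matrix.transpose_mul, ← Units.val_mul, mul_inv_cancel, Units.val_one, Matrix.transpose_one] }
  have hQ : Q.1 = (P.1.map ι)ᵀ := rfl
  have hJι : (J (Fin m) (fixedF σ)).map ι = J (Fin m) F := by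
    exact Matrix.map_J (Fin m) ι
  have hP2 : P.1.map ι * (d • B) * (P.1.map ι)ᵀ = J (Fin m) F := by
    have h1 := congrArg (fun M => M.map ι) hP
    simp only [Matrix.map_mul, hJι, hAm] at h1
    rw [← h1, Matrix.transpose_map]
  refine ⟨Q, ?_, ?_⟩
  · rw [hQ]
    ext i j
    exact (P.1 j i).2
  · apply mem_GSp_of_transpose _ (Units.mk0 d hd)⁻¹
    have e1 : ((h * Q : GL (Fin m ⊕ Fin m) F) : Matrix _ _ F) = h.1 * Q.1 := rfl
    rw [e1, Matrix.transpose_mul, hQ, Matrix.transpose_transpose]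
    have e2 : (P.1.map ι) * h.1ᵀ * J (Fin m) F * (h.1 * (P.1.map ι)ᵀ) = (P.1.map ι) * B * (P.1.map ι)ᵀ := by
      rw [hB]
      simp only [Matrix.mul_assoc]
    rw [e2]
    have h3 : (P.1.map ι) * B * (P.1.map ι)ᵀ = d⁻¹ • J (Fin m) F := by
      rw [← hP2, Matrix.mul_smul, Matrix.smul_mul, smul_smul, inv_mul_cancel₀ hd, one_smul]
    rw [h3]
    simp

/-- The norm of the transported element. -/
lemma rG_nrm (e : Fin m ⊕ Fin m ≃ Fin (m + m)) (σ : F ≃+* F) (G : GS m F) (k : ℕ) :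
    Cfsg.Agent.Lib.AutPSL.nrm σ (Cfsg.Agent.Lib.AutPSL.rG e G.1) k =
      Cfsg.Agent.Lib.AutPSL.rG e (nrmS σ G k).1 := by
  induction k with
  | zero =>
    rw [Cfsg.Agent.Lib.AutPSL.nrm_zero, nrmS_zero]
    exact (map_one _).symm
  | succ k ih =>
    rw [Cfsg.Agent.Lib.AutPSL.nrm_succ, ih, nrmS_succ, Subgroup.coe_mul, map_mul]
    congr 1

/-- Non-abelian Hilbert 90 for conformal matrices, first at the level of `GL`. -/
lemma h90_GL (σ : F ≃+* F) {r : ℕ} (hr : 0 < r) (hord : orderOf σ = r) (G : GS m F) (hN : nrmS σ G r = 1) :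
    ∃ h : GL (Fin m ⊕ Fin m) F, G.1.1 * h.1.map σ = h.1 := by
  classical
  let e : Fin m ⊕ Fin m ≃ Fin (m + m) := finSumFinEquiv
  have h1 : Cfsg.Agent.Lib.AutPSL.nrm σ (Cfsg.Agent.Lib.AutPSL.rG e G.1) r = 1 := by
    rw [rG_nrm, hN]
    exact map_one _
  obtain ⟨h', hh'⟩ := Cfsg.Agent.Lib.AutPSL.h90 σ hr hord _ h1
  refine ⟨(Cfsg.Agent.Lib.AutPSL.rG e).symm h', ?_⟩
  have h2 : Cfsg.Agent.Lib.AutPSL.rG e G.1 * Cfsg.Agent.Lib.AutPSL.glMap σ h' = h' := by
    rw [hh', mul_assoc, ← map_mul, inv_mul_cancel, map_one, mul_one]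
  have h3 := congrArg (fun g : GL (Fin (m + m)) F => (g.1).submatrix e e) h2
  simp only [Units.val_mul, Cfsg.Agent.Lib.AutPSL.rG_coe, Cfsg.Agent.Lib.AutPSL.glMap_coe] at h3
  rw [Cfsg.Agent.Lib.AutPSL.rG_symm_coe]
  conv_rhs => rw [← h3]
  ext i j
  simp only [Matrix.mul_apply, Matrix.submatrix_apply, Matrix.map_apply]
  rw [← Equiv.sum_comp e]
  simp

/-- Lang's theorem for the semilinear conformal maps. -/
theorem lang_S [Fintype F] [NeZero m] (hm : 2 ≤ m) (σ : F ≃+* F) {r : ℕ} (hr : 0 < r) (hord : orderOf σ = r) (G : GS m F)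
    (hy : (gsAut G σ) ^ r = 1) : ∃ H : GS m F, gsAut G σ = dlS H * faS σ * (dlS H)⁻¹ := by
  have hσr : σ ^ r = 1 := by rw [← hord]; exact pow_orderOf_eq_one σ
  rw [gsAut_pow, hσr] at hy
  obtain ⟨-, c, hc⟩ := eq_of_gsAut_eq_one hm hy
  have hc1 : Units.map (σ : F →* F) c = c := by
    have h1 := nrmS_succ σ G r
    rw [nrmS_succ', hσr, glS_one_apply, hc, glS_scS, scS_comm] at h1
    exact (scS_injective (mul_left_cancel h1)).symm
  have hc2 : σ (c : F) = c := congrArg Units.val hc1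
  obtain ⟨d, hd, hdn⟩ := Cfsg.Agent.Lib.AutPSL.exists_norm_eq σ hr hord c.ne_zero hc2
  obtain ⟨e, he, hk⟩ := nrmS_mul_scS σ G (Units.mk0 d hd)⁻¹ r
  have he' : e = c⁻¹ := by
    apply Units.ext
    rw [he, Units.val_inv_eq_inv_val, Units.val_inv_eq_inv_val, ← hdn]
    change pnorm σ (d⁻¹) r = (pnorm σ d r)⁻¹
    simp [pnorm, Finset.prod_inv_distrib, map_inv₀]
  set G' : GS m F := G * scS (Units.mk0 d hd)⁻¹ with hG'
  have hN : nrmS σ G' r = 1 := by
    rw [hk, hc, he', scS_inv, mul_inv_cancel]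
  obtain ⟨h, hh⟩ := h90_GL σ hr hord G' hN
  -- the form of `h` is semi-invariant
  have hJσ : (J (Fin m) F).map σ = J (Fin m) F := by
    exact Matrix.map_J (Fin m) σ
  set μ := ((mu G' : Fˣ) : F) with hμ
  have hμ0 : μ ≠ 0 := (mu G').ne_zero
  have hB : h.1ᵀ * J (Fin m) F * h.1 = μ • (h.1ᵀ * J (Fin m) F * h.1).map σ := by
    have h1 := transpose_form G'
    rw [Matrix.map_mul, Matrix.map_mul, hJσ, Matrix.transpose_map]
    conv_lhs => rw [← hh, Matrix.transpose_mul]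
    calc (h.1.map σ)ᵀ * G'.1.1ᵀ * J (Fin m) F * (G'.1.1 * h.1.map σ)
        = (h.1.map σ)ᵀ * (G'.1.1ᵀ * J (Fin m) F * G'.1.1) * h.1.map σ := by simp only [Matrix.mul_assoc]
      _ = _ := by
        rw [h1, ← hμ, Matrix.mul_smul, Matrix.smul_mul]
  have hc3 : ∀ i j, σ ((h.1ᵀ * J (Fin m) F * h.1) i j) = μ⁻¹ * (h.1ᵀ * J (Fin m) F * h.1) i j := by
    intro i j
    have h1 := congrFun (congrFun hB i) j
    simp only [Matrix.smul_apply, smul_eq_mul, Matrix.map_apply] at h1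
    conv_rhs => rw [h1]
    rw [← mul_assoc, inv_mul_cancel₀ hμ0, one_mul]
  obtain ⟨Q, hQσ, hQ⟩ := exists_fixed_conformal σ hr hord h hc3
  let H : GS m F := ⟨h * Q, hQ⟩
  have hH : G' * glS σ H = H := by
    apply Subtype.ext
    apply Units.ext
    change G'.1.1 * (h.1 * Q.1).map σ = h.1 * Q.1
    rw [Matrix.map_mul, hQσ, ← Matrix.mul_assoc, hh]
  refine ⟨H, ?_⟩
  have h5 : H * glS σ H⁻¹ = G' := by
    rw [map_inv, mul_inv_eq_iff_eq_mul, hH]
  rw [faS, conj_dlS, mul_one, h5, hG', gsAut_scS_mul]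

end Cfsg.Agent.Lib.AutPSp
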