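import Cfsg.Agent.Lib.AutPSp.Root

/-!
# Every automorphism of `PSp_{2m}` is induced by a semilinear conformal map
-/

set_option autoImplicit false

namespace Cfsg.Agent.Lib.AutPSp

open Matrix Cfsg.Agent.Lib.SpBasic Cfsg.Agent.Lib.SpBorel
open scoped MatrixGroups

variable {F : Type*} [Field F] {m : ℕ}

lemma fm_mulVec (σ : F ≃+* F) (A : Matrix (Fin m ⊕ Fin m) (Fin m ⊕ Fin m) F) (v : Fin m ⊕ Fin m → F) :
    fm σ (A *ᵥ v) = (A.map σ) *ᵥ fm σ v := by
  ext i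
  simp only [fm, Matrix.mulVec, dotProduct, map_sum, map_mul, Matrix.map_apply]

lemma tb_zero (w : Fin m ⊕ Fin m → F) : tb w (0 : F) = 1 := by
  rw [tb, T_zero_right]
  rfl

lemma fm_ne (σ : F ≃+* F) {v : Fin m ⊕ Fin m → F} (hv : v ≠ 0) : fm σ v ≠ 0 := by
  intro h0
  apply hv
  ext i
  have := congrFun h0 i
  simpa [fm] using this

lemma center_of_scalar {z : Sp (Fin m) F} {a : F} (h : ∀ x : Fin m ⊕ Fin m → F, z • x = a • x) :
    z ∈ Subgroup.center (Sp (Fin m) F) := by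
  rw [Subgroup.mem_center_iff]
  intro g
  apply Sp_ext
  intro x
  rw [mul_smul, mul_smul, h, h, smul_comm]

/-- An automorphism of `PSp_{2m}` mapping root groups into root groups is induced by a semilinear conformal map. -/
theorem exists_induced_of_root [Finite F] (hm : 2 ≤ m) (β : Cfsg.PSp m F ≃* Cfsg.PSp m F)
    (hroot : ∀ v : Fin m ⊕ Fin m → F, v ≠ 0 → ∃ w : Fin m ⊕ Fin m → F, w ≠ 0 ∧ ∀ c : F, ∃ a : F, β (tb v c) = tb w a) :
    ∃ (G : GL (Fin m ⊕ Fin m) F) (σ : F ≃+* F), G ∈ Cfsg.GSp m F ∧ Cfsg.IsInducedBySemilinearPSp G σ β := by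
  classical
  have hm1 : 1 ≤ m := by omega
  have key : ∀ v : Fin m ⊕ Fin m → F, ∃ w : Fin m ⊕ Fin m → F,
      v ≠ 0 → w ≠ 0 ∧ ∀ c : F, ∃ a : F, β (tb v c) = tb w a := by
    intro v
    by_cases hv : v = 0
    · exact ⟨0, fun h => absurd hv h⟩
    · obtain ⟨w, hw, hwc⟩ := hroot v hv
      exact ⟨w, fun _ => ⟨hw, hwc⟩⟩
  choose fv hfv using key
  have hne : ∀ {v : Fin m ⊕ Fin m → F} {c a : F} {w : Fin m ⊕ Fin m → F}, v ≠ 0 → c ≠ 0 → β (tb v c) = tb w a → a ≠ 0 := by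
    intro v c a w hv hc h ha
    rw [ha, tb_zero] at h
    exact tb_ne_one hm hv hc ((map_eq_one_iff β β.injective).mp h)
  -- the set of root elements is permuted
  let L : Set (Cfsg.PSp m F) := {x | ∃ (v : Fin m ⊕ Fin m → F) (c : F), v ≠ 0 ∧ c ≠ 0 ∧ x = tb v c}
  let fL : L → L := fun x => ⟨β x.1, by
    obtain ⟨v, c, hv, hc, hx⟩ := x.2
    obtain ⟨a, ha⟩ := (hfv v hv).2 c
    exact ⟨fv v, a, (hfv v hv).1, hne hv hc ha, by rw [hx, ha]⟩⟩
  have hfL : Function.Injective fL := by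
    intro x y h
    exact Subtype.ext (β.injective (congrArg Subtype.val h))
  have hfLs : Function.Surjective fL := Finite.injective_iff_surjective.mp hfL
  have hPt : PtMap fv := by
    refine ⟨fun v hv => (hfv v hv).1, fun v w hv hw => ?_, fun w hw => ?_⟩
    · obtain ⟨a, ha⟩ := (hfv v hv).2 1
      obtain ⟨b, hb⟩ := (hfv w hw).2 1
      have ha0 := hne hv one_ne_zero ha
      have hb0 := hne hw one_ne_zero hb
      rw [← tb_comm_iff hm hw one_ne_zero one_ne_zero hv, ← tb_comm_iff hm (hfv w hw).1 hb0 ha0 (hfv v hv).1,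
        ← ha, ← hb, ← map_mul, ← map_mul]
      exact (β.injective.eq_iff).symm
    · obtain ⟨⟨x, v, c, hv, hc, hx⟩, hxe⟩ := hfLs ⟨tb w 1, w, 1, hw, one_ne_zero, rfl⟩
      have h1 : β x = tb w 1 := congrArg Subtype.val hxe
      obtain ⟨a, ha⟩ := (hfv v hv).2 c
      have h2 : tb (fv v) a = tb w 1 := by
        rw [← ha, ← hx, h1]
      obtain ⟨l, hl, hle⟩ := tb_eq_tb hm one_ne_zero hw h2
      exact ⟨v, hv, l, hl, hle⟩
  obtain ⟨G, σ, hG, hGf⟩ := fund hm hPt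
  refine ⟨G, σ, hG, ?_⟩
  intro s s' hs'
  obtain ⟨s₁, hs₁⟩ := QuotientGroup.mk_surjective (β (QuotientGroup.mk s))
  rw [← hs₁]
  have hGs : s'.1 * G.1 = G.1 * s.1.map σ := by
    rw [hs', mul_assoc, Matrix.GeneralLinearGroup.coe_inv]
    rw [Matrix.nonsing_inv_mul _ ((Matrix.isUnit_iff_isUnit_det _).mp G.isUnit), mul_one]
  -- the elements act proportionally on every vector
  have hprop : ∀ x : Fin m ⊕ Fin m → F, ∃ a : F, ((s')⁻¹ * s₁) • x = a • x := by
    intro x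
    by_cases hx : x = 0
    · exact ⟨0, by rw [hx, smul_zero, smul_zero]⟩
    set v : Fin m ⊕ Fin m → F := fm σ.symm ((G⁻¹).1 *ᵥ x) with hv
    have hGv : G.1 *ᵥ fm σ v = x := by
      have h1 : fm σ v = (G⁻¹).1 *ᵥ x := by
        ext i
        simp [hv, fm]
      rw [h1, Matrix.mulVec_mulVec]
      have h2 : G.1 * (G⁻¹).1 = 1 := by
        rw [← Units.val_mul, mul_inv_cancel, Units.val_one]
      rw [h2, Matrix.one_mulVec]
    have hv0 : v ≠ 0 := by
      intro h0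
      apply hx
      rw [← hGv, h0]
      have : fm σ (0 : Fin m ⊕ Fin m → F) = 0 := by
        ext i
        simp [fm]
      rw [this, Matrix.mulVec_zero]
    have hsv0 : s • v ≠ 0 := by
      intro h0
      apply hv0
      have := congrArg (fun y => s⁻¹ • y) h0
      simpa using this
    obtain ⟨a, ha⟩ := (hfv v hv0).2 1
    have ha0 := hne hv0 one_ne_zero ha
    obtain ⟨a', ha'⟩ := (hfv (s • v) hsv0).2 1
    have ha'0 := hne hsv0 one_ne_zero ha'
    have h1 : tb (s₁ • fv v) a = tb (fv (s • v)) a' := by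
      have h1a : β (tb (s • v) 1) = (QuotientGroup.mk s₁ : Cfsg.PSp m F) * tb (fv v) a * (QuotientGroup.mk s₁)⁻¹ := by
        rw [← tb_conj s v 1, map_mul, map_mul, map_inv, ha, hs₁]
      rw [← ha', h1a, tb_conj]
    obtain ⟨l, hl, hle⟩ := tb_eq_tb hm ha'0 (hfv _ hsv0).1 h1
    obtain ⟨b, hb, hbe⟩ := hGf v hv0
    obtain ⟨b', hb', hbe'⟩ := hGf (s • v) hsv0
    have h3 : G.1 *ᵥ fm σ (s • v) = s' • x := by
      rw [Sp_smul_def, Sp_smul_def, fm_mulVec, Matrix.mulVec_mulVec, ← hGs, ← Matrix.mulVec_mulVec, hGv]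
    rw [hbe, hGv] at hle
    rw [hbe', h3] at hle
    have h4 : s₁ • x = (b⁻¹ * l * b') • (s' • x) := by
      have h5 : b • (s₁ • x) = l • b' • (s' • x) := by
        rw [smul_comm]
        exact hle
      calc s₁ • x = b⁻¹ • (b • (s₁ • x)) := by rw [smul_smul, inv_mul_cancel₀ hb, one_smul]
        _ = _ := by rw [h5, smul_smul, smul_smul, mul_assoc]
    refine ⟨b⁻¹ * l * b', ?_⟩
    rw [mul_smul, h4, smul_comm, inv_smul_smul]
  obtain ⟨c, hc⟩ := Cfsg.Agent.Lib.SpCenter.exists_scalar_of_forall _ hprop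
  have hz := center_of_scalar hc
  exact (QuotientGroup.eq.mpr hz).symm

/-- Every automorphism of `PSp_{2m}` (`p ≠ 2` if `m = 2`) is induced by a semilinear conformal map. -/
theorem exists_induced [Fintype F] {p f : ℕ} [Fact p.Prime] (hf : 1 ≤ f) (hF : Fintype.card F = p ^ f)
    (hm : 2 ≤ m) (h4 : m = 2 → p ≠ 2) (β : Cfsg.PSp m F ≃* Cfsg.PSp m F) :
    ∃ (G : GL (Fin m ⊕ Fin m) F) (σ : F ≃+* F), G ∈ Cfsg.GSp m F ∧ Cfsg.IsInducedBySemilinearPSp G σ β :=
  exists_induced_of_root hm β (fun _ hv => root_map hf hF hm h4 β hv)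

end Cfsg.Agent.Lib.AutPSp
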