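import Cfsg.Agent.Lib.AutPSp.Uni

/-!
# Automorphisms of `PSp_{2m}` permute the root groups
-/

set_option autoImplicit false

namespace Cfsg.Agent.Lib.AutPSp

open Matrix Cfsg.Agent.Lib.SpBasic Cfsg.Agent.Lib.SpBorel
open scoped MatrixGroups

variable {F : Type*} [Field F] {m : ℕ}

/-- The image of a transvection. -/
noncomputable abbrev tb (v : Fin m ⊕ Fin m → F) (c : F) : Cfsg.PSp m F := QuotientGroup.mk (T v c)

lemma exists_perp_two [Finite F] (hm : 2 ≤ m) (u v : Fin m ⊕ Fin m → F) :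
    ∃ x : Fin m ⊕ Fin m → F, x ≠ 0 ∧ ω u x = 0 ∧ ω v x = 0 := by
  classical
  have : Fintype F := Fintype.ofFinite F
  let L : (Fin m ⊕ Fin m → F) →ₗ[F] (Fin 2 → F) :=
    { toFun := fun x => ![ω u x, ω v x]
      map_add' := by
        intro x y
        ext i
        fin_cases i <;> simp [ω_add_right]
      map_smul' := by
        intro a x
        ext i
        fin_cases i <;> simp [ω_smul_right] }
  have hk : LinearMap.ker L ≠ ⊥ := by
    apply LinearMap.ker_ne_bot_of_finrank_lt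
    rw [Module.finrank_fintype_fun_eq_card, Module.finrank_fintype_fun_eq_card]
    simp only [Fintype.card_sum, Fintype.card_fin]
    omega
  obtain ⟨x, hx, hx0⟩ := (Submodule.ne_bot_iff _).mp hk
  refine ⟨x, hx0, ?_, ?_⟩
  · exact congrFun (LinearMap.mem_ker.mp hx) 0
  · exact congrFun (LinearMap.mem_ker.mp hx) 1

lemma negOne_eq_one (h2 : (2 : F) = 0) : (Cfsg.Agent.Lib.SpCenter.negOne : Sp (Fin m) F) = 1 := by
  apply Sp_ext
  intro x
  rw [Cfsg.Agent.Lib.SpCenter.negOne_smul, one_smul]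
  ext i
  have : (-x) i - x i = 0 := by
    simp only [Pi.neg_apply]
    linear_combination (- x i) * h2
  exact sub_eq_zero.mp this

lemma mk_T_eq [Finite F] (hm : 2 ≤ m) {u v : Fin m ⊕ Fin m → F} {c d : F} (h : tb u c = tb v d) : T u c = T v d := by
  have : Nonempty (Fin m) := ⟨⟨0, by omega⟩⟩
  have h1 := QuotientGroup.eq.mp h
  rcases Cfsg.Agent.Lib.SpCenter.mem_center_iff.mp h1 with h3 | h3
  · exact inv_mul_eq_one.mp h3
  · -- the other sign
    obtain ⟨x, hx0, hxu, hxv⟩ := exists_perp_two hm u v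
    have h4 : T v d = T u c * Cfsg.Agent.Lib.SpCenter.negOne := by
      rw [← h3]
      group
    have h5 : T v d • x = (T u c * Cfsg.Agent.Lib.SpCenter.negOne) • x := by rw [h4]
    rw [mul_smul, Cfsg.Agent.Lib.SpCenter.negOne_smul, T_smul, T_smul, hxv, ω_neg_right, hxu] at h5
    simp only [mul_zero, zero_smul, add_zero, neg_zero] at h5
    have h6 : (2 : F) = 0 := by
      by_contra h2
      apply hx0
      have h7 : (2 : F) • x = 0 := by
        rw [two_smul]
        nth_rewrite 1 [h5]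
        simp
      exact (smul_eq_zero.mp h7).resolve_left h2
    rw [h4, negOne_eq_one h6, mul_one]

lemma T_comm {u v : Fin m ⊕ Fin m → F} (h : ω u v = 0) (c d : F) : T u c * T v d = T v d * T u c := by
  have h1 := T_conj (T u c) v d
  rw [T_smul, h, mul_zero, zero_smul, add_zero] at h1
  calc T u c * T v d = (T u c * T v d * (T u c)⁻¹) * T u c := by group
    _ = _ := by rw [h1]

lemma tb_comm_iff [Finite F] (hm : 2 ≤ m) {u v : Fin m ⊕ Fin m → F} (hv : v ≠ 0) {c d : F} (hd : d ≠ 0)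
    (hu : c ≠ 0) (hu0 : u ≠ 0) :
    tb u c * tb v d = tb v d * tb u c ↔ ω u v = 0 := by
  constructor
  · intro h
    by_contra hne
    have h1 : tb (T u c • v) d = tb v d := by
      rw [tb, ← T_conj, QuotientGroup.mk_mul, QuotientGroup.mk_mul, QuotientGroup.mk_inv]
      change tb u c * tb v d * (tb u c)⁻¹ = tb v d
      rw [h]
      group
    have h2 := mk_T_eq hm h1
    obtain ⟨l, -, hl, -⟩ := T_eq_T hd hv h2
    rw [T_smul] at hl
    have h3 : (c * ω u v) • u = (l - 1) • v := by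
      rw [sub_smul, one_smul, ← hl]
      abel
    have h4 : c * ω u v ≠ 0 := mul_ne_zero hu hne
    have h5 : u = ((c * ω u v)⁻¹ * (l - 1)) • v := by
      rw [mul_smul, ← h3, smul_smul, inv_mul_cancel₀ h4, one_smul]
    apply hne
    rw [h5, ω_smul_left, ω_self, mul_zero]
  · intro h
    rw [tb, tb, ← QuotientGroup.mk_mul, ← QuotientGroup.mk_mul, T_comm h]

lemma T_ne_one {v : Fin m ⊕ Fin m → F} (hv : v ≠ 0) {c : F} (hc : c ≠ 0) : T v c ≠ 1 := by
  intro h
  obtain ⟨x, hx⟩ := exists_ω_ne_zero hv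
  have h1 : T v c • x = x := by rw [h, one_smul]
  rw [T_smul] at h1
  have h2 : (c * ω v x) • v = 0 := by simpa using h1
  exact smul_ne_zero (mul_ne_zero hc hx) hv h2

lemma tb_ne_one [Finite F] (hm : 2 ≤ m) {v : Fin m ⊕ Fin m → F} (hv : v ≠ 0) {c : F} (hc : c ≠ 0) : tb v c ≠ 1 := by
  intro h
  have h1 : tb v c = tb v (0 : F) := by
    rw [h, tb, T_zero_right]
    rfl
  have h2 := mk_T_eq hm h1
  rw [T_zero_right] at h2
  exact T_ne_one hv hc h2

lemma tb_conj (s : Sp (Fin m) F) (v : Fin m ⊕ Fin m → F) (c : F) :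
    (QuotientGroup.mk s : Cfsg.PSp m F) * tb v c * (QuotientGroup.mk s)⁻¹ = tb (s • v) c := by
  rw [tb, tb, ← T_conj, QuotientGroup.mk_mul, QuotientGroup.mk_mul, QuotientGroup.mk_inv]

lemma tb_eq_tb [Finite F] (hm : 2 ≤ m) {u v : Fin m ⊕ Fin m → F} {c d : F} (hd : d ≠ 0) (hv : v ≠ 0)
    (h : tb u c = tb v d) : ∃ l : F, l ≠ 0 ∧ u = l • v :=
  let ⟨l, hl, hu, _⟩ := T_eq_T hd hv (mk_T_eq hm h)
  ⟨l, hl, hu⟩

/-! ### The property distinguishing transvections in characteristic two -/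

/-- The property. -/
def Pp (x : Cfsg.PSp m F) : Prop :=
  ∀ g : Cfsg.PSp m F, (x * (g * x * g⁻¹)) ^ 4 = 1 → (x * (g * x * g⁻¹)) ^ 2 = 1

lemma Pp_map (β : Cfsg.PSp m F ≃* Cfsg.PSp m F) {x : Cfsg.PSp m F} (hx : Pp x) : Pp (β x) := by
  intro g hg
  have e : β x * (g * β x * g⁻¹) = β (x * (β.symm g * x * (β.symm g)⁻¹)) := by
    simp [map_mul, map_inv]
  rw [e] at hg ⊢
  rw [← map_pow, map_eq_one_iff β β.injective] at hg ⊢
  exact hx _ hg

lemma Pp_conj (t : Cfsg.PSp m F) {x : Cfsg.PSp m F} (hx : Pp x) : Pp (t⁻¹ * x * t) := by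
  have := Pp_map (MulAut.conj t⁻¹) hx
  simpa using this

lemma eq_one_of_center (h2 : (2 : F) = 0) (hm : 1 ≤ m) {g : Sp (Fin m) F}
    (hg : g ∈ Subgroup.center (Sp (Fin m) F)) : g = 1 := by
  have : Nonempty (Fin m) := ⟨⟨0, hm⟩⟩
  rcases Cfsg.Agent.Lib.SpCenter.mem_center_iff.mp hg with h | h
  · exact h
  · rw [h, negOne_eq_one h2]

lemma mk_pow_eq_one_iff (h2 : (2 : F) = 0) (hm : 1 ≤ m) (y : Sp (Fin m) F) (n : ℕ) :
    ((QuotientGroup.mk y : Cfsg.PSp m F)) ^ n = 1 ↔ y ^ n = 1 := by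
  rw [← QuotientGroup.mk_pow, QuotientGroup.eq_one_iff]
  constructor
  · exact eq_one_of_center h2 hm
  · intro h
    rw [h]
    exact one_mem _

/-- The product of two transvections of the same size does not have order four. -/
lemma T_prod_four (h2 : (2 : F) = 0) (u w : Fin m ⊕ Fin m → F) (c : F)
    (h : (T u c * T w c) ^ 4 = 1) : (T u c * T w c) ^ 2 = 1 := by
  by_cases ha : ω u w = 0
  · rw [pow_two, mul_assoc, ← mul_assoc (T w c), ← T_comm ha, mul_assoc, T_mul, ← mul_assoc, T_mul,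
      ← two_mul, h2, zero_mul, T_zero_right, T_zero_right, one_mul]
  by_cases hc : c = 0
  · rw [hc, T_zero_right, T_zero_right]
    simp
  exfalso
  set a := ω u w with ha'
  set s := c * a with hs
  have hs0 : s ≠ 0 := mul_ne_zero hc ha
  have hwu : ω w u = a := by
    rw [ω_comm, ← ha']
    linear_combination (- a) * h2
  set y := T u c * T w c with hy
  have hyu : y • u = (1 + s ^ 2) • u + s • w := by
    rw [hy, mul_smul, T_smul w c u, hwu, smul_add, smul_comm (T u c) (c * a) w, T_smul u c u, T_smul u c w,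
      ω_self, ← ha', hs]
    match_scalars <;> ring
  have hyw : y • w = s • u + w := by
    rw [hy, mul_smul, T_smul w c w, ω_self, mul_zero, zero_smul, add_zero, T_smul, ← ha', add_comm]
  have hy2 : ∀ α β : F, y • (α • u + β • w) = (α * (1 + s ^ 2) + β * s) • u + (α * s + β) • w := by
    intro α β
    rw [smul_add, smul_comm, smul_comm y β, hyu, hyw]
    match_scalars <;> ring
  have h4 : (y ^ 4) • u = u := by rw [h, one_smul]
  have h5 : (y ^ 4) • u = y • (y • (y • (y • u))) := by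
    simp only [pow_succ, pow_zero, one_mul, mul_smul]
  have h6 : u = (1 : F) • u + (0 : F) • w := by simp
  rw [h5] at h4
  have h7 : ω u (y • (y • (y • (y • u)))) = ω u u := by rw [h4]
  rw [hyu, hy2, hy2, hy2] at h7
  rw [ω_add_right, ω_smul_right, ω_smul_right, ω_self, ← ha'] at h7
  have h8 : s ^ 7 * a = 0 := by
    linear_combination h7 - (2 * s + 5 * s ^ 3 + 3 * s ^ 5) * a * h2
  exact (mul_ne_zero (pow_ne_zero 7 hs0) ha) h8

lemma tb_Pp (h2 : (2 : F) = 0) (hm : 1 ≤ m) (v : Fin m ⊕ Fin m → F) (c : F) : Pp (tb v c) := by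
  intro g hg
  obtain ⟨s, rfl⟩ := QuotientGroup.mk_surjective g
  have e : tb v c * ((QuotientGroup.mk s : Cfsg.PSp m F) * tb v c * (QuotientGroup.mk s)⁻¹) =
      QuotientGroup.mk (T v c * T (s • v) c) := by
    rw [tb_conj, tb, tb, ← QuotientGroup.mk_mul]
  rw [e, mk_pow_eq_one_iff h2 hm] at hg ⊢
  exact T_prod_four h2 _ _ _ hg

/-- Conjugates of the central elements in characteristic two. -/
lemma conj_formula {z g : Sp (Fin m) F} {u w : Fin m ⊕ Fin m → F} {a b : F}
    (hz : ∀ x, z • x = x + (a * ω u x) • u + b • (ω u x • w + ω w x • u)) (x : Fin m ⊕ Fin m → F) :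
    (g * z * g⁻¹) • x = x + (a * ω (g • u) x) • (g • u) + b • (ω (g • u) x • (g • w) + ω (g • w) x • (g • u)) := by
  have h1 : ∀ v, ω v (g⁻¹ • x) = ω (g • v) x := by
    intro v
    rw [← ω_smul_smul g v (g⁻¹ • x), smul_inv_smul]
  rw [mul_smul, mul_smul, hz, h1, h1, smul_add, smul_add, smul_inv_smul, smul_comm g _ u, smul_comm g b,
    smul_add, smul_comm g _ w, smul_comm g _ u]

/-- The elements of the centre of `Uni` not of transvection type fail the property. -/
lemma exists_order_four [Finite F] (h2 : (2 : F) = 0) (hm : 3 ≤ m) {z : Sp (Fin m) F} {a b : F} (hb : b ≠ 0)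
    (hz : ∀ x, z • x = x + (a * ω (eL ⟨0, by omega⟩ : Fin m ⊕ Fin m → F) x) • (eL ⟨0, by omega⟩ : Fin m ⊕ Fin m → F) +
        b • (ω (eL ⟨0, by omega⟩ : Fin m ⊕ Fin m → F) x • (eL ⟨1, by omega⟩ : Fin m ⊕ Fin m → F) +
          ω (eL ⟨1, by omega⟩ : Fin m ⊕ Fin m → F) x • (eL ⟨0, by omega⟩ : Fin m ⊕ Fin m → F))) :
    ∃ g : Sp (Fin m) F, (z * (g * z * g⁻¹)) ^ 4 = 1 ∧ (z * (g * z * g⁻¹)) ^ 2 ≠ 1 := by
  classical
  set i₀ : Fin m := ⟨0, by omega⟩ with hi₀
  set i₁ : Fin m := ⟨1, by omega⟩ with hi₁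
  set i₂ : Fin m := ⟨2, by omega⟩ with hi₂
  have h01 : i₀ ≠ i₁ := by simp [hi₀, hi₁, Fin.ext_iff]
  have h02 : i₀ ≠ i₂ := by simp [hi₀, hi₂, Fin.ext_iff]
  have h12 : i₁ ≠ i₂ := by simp [hi₁, hi₂, Fin.ext_iff]
  set e₀ : Fin m ⊕ Fin m → F := eL i₀ with he₀
  set e₁ : Fin m ⊕ Fin m → F := eL i₁ with he₁
  set u : Fin m ⊕ Fin m → F := eL i₂ with hu
  set w : Fin m ⊕ Fin m → F := eR i₀ with hw
  have hneg : ∀ t : F, - t = t := fun t => by linear_combination (- t) * h2
  -- the form on these vectors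
  have w01 : ω e₀ e₁ = 0 := by rw [he₁, ω_eL_right]; exact eL_inr _ _
  have w0u : ω e₀ u = 0 := by rw [hu, ω_eL_right]; exact eL_inr _ _
  have w1u : ω e₁ u = 0 := by rw [hu, ω_eL_right]; exact eL_inr _ _
  have w0w : ω e₀ w = 1 := by
    rw [hw, ω_eR_right, he₀, eL_inl_same, hneg]
  have w1w : ω e₁ w = 0 := by
    rw [hw, ω_eR_right, he₁, eL_inl_ne h01, neg_zero]
  have wuw : ω u w = 0 := by
    rw [hw, ω_eR_right, hu, eL_inl_ne h02, neg_zero]
  have wue0 : ω u e₀ = 0 := by rw [ω_comm, w0u, neg_zero]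
  have wue1 : ω u e₁ = 0 := by rw [ω_comm, w1u, neg_zero]
  have wwe0 : ω w e₀ = 1 := by rw [ω_comm, w0w, hneg]
  have wwe1 : ω w e₁ = 0 := by rw [ω_comm, w1w, neg_zero]
  have wwu : ω w u = 0 := by rw [ω_comm, wuw, neg_zero]
  have we10 : ω e₁ e₀ = 0 := by rw [ω_comm, w01, neg_zero]
  have hne0 : ∀ i : Fin m, (eL i : Fin m ⊕ Fin m → F) ≠ 0 := fun i => eL_ne
  -- Witt
  obtain ⟨g, hg⟩ := Cfsg.Agent.Lib.SympWitt.exists_sp_tuple (m := m) (F := F) (n := 2) ![e₀, e₁] ![u, w]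
    (by
      rw [LinearIndependent.pair_iff]
      intro s t hst
      have h3 := congrFun hst (Sum.inl i₀)
      have h4 := congrFun hst (Sum.inl i₁)
      simp only [Pi.add_apply, Pi.smul_apply, Pi.zero_apply, smul_eq_mul, he₀, he₁, eL_inl_same,
        eL_inl_ne h01, eL_inl_ne h01.symm, mul_one, mul_zero, add_zero, zero_add] at h3 h4
      exact ⟨h3, h4⟩)
    (by
      rw [LinearIndependent.pair_iff]
      intro s t hst
      have h3 := congrFun hst (Sum.inl i₂)
      have h4 := congrFun hst (Sum.inr i₀)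
      simp only [Pi.add_apply, Pi.smul_apply, Pi.zero_apply, smul_eq_mul, hu, hw, eL_inl_same, eR_inl,
        eL_inr, eR_inr_same, mul_one, mul_zero, add_zero, zero_add] at h3 h4
      exact ⟨h3, h4⟩)
    (by
      intro i j
      change ω _ _ = ω _ _
      fin_cases i <;> fin_cases j <;> simp [ω_self, w01, we10, wuw, wwu])
  have hg0 : g • e₀ = u := hg 0
  have hg1 : g • e₁ = w := hg 1
  set z' : Sp (Fin m) F := g * z * g⁻¹ with hz'
  have hz'f : ∀ x, z' • x = x + (a * ω u x) • u + b • (ω u x • w + ω w x • u) := by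
    intro x
    rw [hz', conj_formula hz, hg0, hg1]
  set y : Sp (Fin m) F := z * z' with hy
  -- the action of `y`
  have hyf : ∀ x, y • x = x + (a * ω u x + b * ω w x) • u + (b * ω u x) • w +
      (a * (ω e₀ x + b * ω u x) + b * ω e₁ x) • e₀ + (b * (ω e₀ x + b * ω u x)) • e₁ := by
    intro x
    have h3 : ω e₀ (z' • x) = ω e₀ x + b * ω u x := by
      rw [hz'f]
      simp only [ω_add_right, ω_smul_right, w0u, w0w]
      ring
    have h4 : ω e₁ (z' • x) = ω e₁ x := by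
      rw [hz'f]
      simp only [ω_add_right, ω_smul_right, w1u, w1w]
      ring
    rw [hy, mul_smul, hz, h3, h4, hz'f]
    match_scalars <;> ring
  have hv0 : ∀ x, ω e₀ (y • x) = ω e₀ x + b * ω u x := by
    intro x
    rw [hyf]
    simp only [ω_add_right, ω_smul_right, w0u, w0w, ω_self, w01]
    ring
  have hv1 : ∀ x, ω e₁ (y • x) = ω e₁ x := by
    intro x
    rw [hyf]
    simp only [ω_add_right, ω_smul_right, w1u, w1w, ω_self, we10]
    ring
  have hvu : ∀ x, ω u (y • x) = ω u x := by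
    intro x
    rw [hyf]
    simp only [ω_add_right, ω_smul_right, wuw, wue0, wue1, ω_self]
    ring
  have hvw : ∀ x, ω w (y • x) = ω w x + (a * (ω e₀ x + b * ω u x) + b * ω e₁ x) := by
    intro x
    rw [hyf]
    simp only [ω_add_right, ω_smul_right, wwu, wwe0, wwe1, ω_self]
    ring
  -- the action of `y ^ 2`
  have hy2 : ∀ x, (y ^ 2) • x = x + (b * (a * (ω e₀ x + b * ω u x) + b * ω e₁ x)) • u +
      (a * b * ω u x) • e₀ + (b ^ 2 * ω u x) • e₁ := by
    intro x
    rw [pow_two, mul_smul, hyf (y • x), hv0, hv1, hvu, hvw, hyf x]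
    match_scalars
    · ring
    · linear_combination (a * ω u x + b * ω w x) * h2
    · linear_combination (b * ω u x) * h2
    · linear_combination (a * ω e₀ x + b * ω e₁ x + a * b * ω u x) * h2
    · linear_combination (b * ω e₀ x + b ^ 2 * ω u x) * h2
  refine ⟨g, ?_, ?_⟩
  · apply Sp_ext
    intro x
    have e4 : y ^ 4 = y ^ 2 * y ^ 2 := by rw [← pow_add]
    rw [e4, mul_smul, one_smul]
    have v0 : ω e₀ ((y ^ 2) • x) = ω e₀ x := by
      rw [hy2]
      simp only [ω_add_right, ω_smul_right, w0u, ω_self, w01]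
      ring
    have v1 : ω e₁ ((y ^ 2) • x) = ω e₁ x := by
      rw [hy2]
      simp only [ω_add_right, ω_smul_right, w1u, ω_self, we10]
      ring
    have vu : ω u ((y ^ 2) • x) = ω u x := by
      rw [hy2]
      simp only [ω_add_right, ω_smul_right, wue0, wue1, ω_self]
      ring
    rw [hy2 ((y ^ 2) • x), v0, v1, vu, hy2 x]
    match_scalars
    · ring
    · linear_combination (b * (a * (ω e₀ x + b * ω u x) + b * ω e₁ x)) * h2
    · linear_combination (a * b * ω u x) * h2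
    · linear_combination (b ^ 2 * ω u x) * h2
  · intro h1
    have h3 : (y ^ 2) • (eR i₁ : Fin m ⊕ Fin m → F) = eR i₁ := by rw [h1, one_smul]
    rw [hy2] at h3
    have a0 : ω e₀ (eR i₁ : Fin m ⊕ Fin m → F) = 0 := by
      rw [ω_eR_right, he₀, eL_inl_ne h01.symm, neg_zero]
    have a1 : ω e₁ (eR i₁ : Fin m ⊕ Fin m → F) = 1 := by
      rw [ω_eR_right, he₁, eL_inl_same, hneg]
    have a2 : ω u (eR i₁ : Fin m ⊕ Fin m → F) = 0 := by
      rw [ω_eR_right, hu, eL_inl_ne h12, neg_zero]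
    rw [a0, a1, a2] at h3
    have h5 := congrFun h3 (Sum.inl i₂)
    simp only [Pi.add_apply, Pi.smul_apply, smul_eq_mul, eR_inl, hu, eL_inl_same, he₀, he₁,
      eL_inl_ne h02.symm, eL_inl_ne h12.symm] at h5
    have h6 : b ^ 2 = 0 := by linear_combination h5
    exact hb (pow_eq_zero_iff (by norm_num) |>.mp h6)

/-- The main step: the root group of the first basis vector is mapped to a root group. -/
theorem root_map_base [Fintype F] {p f : ℕ} [hp : Fact p.Prime] (hf : 1 ≤ f) (hF : Fintype.card F = p ^ f)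
    (hm : 2 ≤ m) (h4 : m = 2 → p ≠ 2) (β : Cfsg.PSp m F ≃* Cfsg.PSp m F) :
    ∃ t : Sp (Fin m) F, ∀ c : F, ∃ a : F, β (tb (eL ⟨0, by omega⟩) c) = tb (t • (eL ⟨0, by omega⟩ : Fin m ⊕ Fin m → F)) a := by
  classical
  have hm1 : 1 ≤ m := by omega
  set e₀ : Fin m ⊕ Fin m → F := eL ⟨0, by omega⟩ with he₀
  obtain ⟨tb', ht⟩ := exists_conj_central (UniBar m F) (isPGroup_UniBar hF hm1)
    (not_dvd_index_UniBar hp.out hf hF hm1) β
  obtain ⟨t, rfl⟩ := QuotientGroup.mk_surjective tb'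
  refine ⟨t, fun c => ?_⟩
  have hy1 : tb e₀ c ∈ UniBar m F := mem_UniBar.mpr ⟨_, T_mem_Uni (fun i => eL_inr _ _) c, rfl⟩
  have hy2 : ∀ w ∈ UniBar m F, tb e₀ c * w = w * tb e₀ c := by
    intro w hw
    obtain ⟨s, hs, rfl⟩ := mem_UniBar.mp hw
    rw [tb, ← QuotientGroup.mk_mul, ← QuotientGroup.mk_mul, T_comm_Uni hm1 c hs]
  obtain ⟨hz1, hz2⟩ := ht _ hy1 hy2
  obtain ⟨z, hz, hzb⟩ := mem_UniBar.mp hz1
  rw [← hzb] at hz2
  have hcent : ∀ w ∈ Uni m F, z * w = w * z := by
    intro w hw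
    have h1 := hz2 _ (mem_UniBar.mpr ⟨w, hw, rfl⟩)
    rw [← QuotientGroup.mk_mul, ← QuotientGroup.mk_mul] at h1
    have h2 := QuotientGroup.eq.mp h1
    have h3 : (z * w)⁻¹ * (w * z) ∈ Uni m F :=
      mul_mem (inv_mem (mul_mem hz hw)) (mul_mem hw hz)
    have h5 := eq_one_of_mem_Uni_center hm1 h3 h2
    exact inv_mul_eq_one.mp h5
  obtain ⟨a, b, h2b, hzf⟩ := central_form hm hz hcent
  have hb : b = 0 := by
    by_cases h2 : (2 : F) = 0
    · by_contra hb
      have hp2 : p = 2 := by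
        have hpF : (p : F) = 0 := by
          have h5 : ((Fintype.card F : ℕ) : F) = 0 := FiniteField.cast_card_eq_zero F
          rw [hF, Nat.cast_pow] at h5
          exact pow_eq_zero_iff (by omega) |>.mp h5
        have h5 : ringChar F ∣ p := (ringChar.spec F p).1 hpF
        have h6 : ringChar F ∣ 2 := (ringChar.spec F 2).1 (by exact_mod_cast h2)
        have h7 : ringChar F ≠ 1 := CharP.char_ne_one F (ringChar F) 
        rcases (Nat.dvd_prime hp.out).mp h5 with h8 | h8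
        · exact absurd h8 h7
        · rw [h8] at h6
          exact (Nat.prime_dvd_prime_iff_eq hp.out Nat.prime_two).mp h6
      have hm3 : 3 ≤ m := by
        by_contra hlt
        exact h4 (by omega) hp2
      obtain ⟨g, hg4, hg2⟩ := exists_order_four h2 hm3 hb hzf
      have hP : Pp (QuotientGroup.mk z : Cfsg.PSp m F) := by
        rw [hzb]
        exact Pp_conj _ (Pp_map β (tb_Pp h2 hm1 _ _))
      apply hg2
      have h5 := hP (QuotientGroup.mk g)
      have e : (QuotientGroup.mk z : Cfsg.PSp m F) * ((QuotientGroup.mk g : Cfsg.PSp m F) * QuotientGroup.mk z * (QuotientGroup.mk g)⁻¹) =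
          QuotientGroup.mk (z * (g * z * g⁻¹)) := by
        rw [QuotientGroup.mk_mul, QuotientGroup.mk_mul, QuotientGroup.mk_mul, QuotientGroup.mk_inv]
      rw [e, mk_pow_eq_one_iff h2 hm1, mk_pow_eq_one_iff h2 hm1] at h5
      exact h5 hg4
    · have := mul_eq_zero.mp h2b
      exact this.resolve_left h2
  have hzT : z = T e₀ a := by
    apply Sp_ext
    intro x
    rw [hzf, hb, T_smul, zero_smul, add_zero]
  refine ⟨a, ?_⟩
  rw [hzT] at hzb
  have h5 : (QuotientGroup.mk t : Cfsg.PSp m F)⁻¹ * β (tb e₀ c) * QuotientGroup.mk t = tb e₀ a := hzb.symm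
  rw [← tb_conj, ← h5]
  group

/-- The main theorem on root groups. -/
theorem root_map [Fintype F] {p f : ℕ} [Fact p.Prime] (hf : 1 ≤ f) (hF : Fintype.card F = p ^ f)
    (hm : 2 ≤ m) (h4 : m = 2 → p ≠ 2) (β : Cfsg.PSp m F ≃* Cfsg.PSp m F) {v : Fin m ⊕ Fin m → F} (hv : v ≠ 0) :
    ∃ w : Fin m ⊕ Fin m → F, w ≠ 0 ∧ ∀ c : F, ∃ a : F, β (tb v c) = tb w a := by
  set e₀ : Fin m ⊕ Fin m → F := eL ⟨0, by omega⟩ with he₀
  have he0 : e₀ ≠ 0 := eL_ne
  obtain ⟨t, ht⟩ := root_map_base hf hF hm h4 β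
  obtain ⟨s, hs⟩ := exists_smul_eq_of_ne_zero he0 hv
  obtain ⟨s', hs'⟩ := QuotientGroup.mk_surjective (β (QuotientGroup.mk s))
  refine ⟨s' • (t • e₀), ?_, fun c => ?_⟩
  · intro h0
    have h1 : t • e₀ = 0 := by
      have := congrArg (fun x => s'⁻¹ • x) h0
      simpa using this
    apply he0
    have := congrArg (fun x => t⁻¹ • x) h1
    simpa using this
  · obtain ⟨a, ha⟩ := ht c
    refine ⟨a, ?_⟩
    rw [← hs, ← tb_conj, map_mul, map_mul, map_inv, ha, ← hs', tb_conj]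

end Cfsg.Agent.Lib.AutPSp
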