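import Cfsg.Agent.Lib.AutPSp.Fund
import Cfsg.Agent.Lib.SpBorel
import Cfsg.Agent.Lib.SpOrder
import Cfsg.Agent.Lib.SpCenter
import Cfsg.Agent.Lib.SympWitt

/-!
# The Sylow `p`-subgroup of `Sp_{2m}` and `PSp_{2m}`
-/

set_option autoImplicit false

namespace Cfsg.Agent.Lib.AutPSp

open Matrix Cfsg.Agent.Lib.SpBasic Cfsg.Agent.Lib.SpBorel
open scoped MatrixGroups

variable {F : Type*} [Field F] {m : ℕ}

/-- A general fact on Sylow subgroups and automorphisms: central elements are mapped to conjugates of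
central elements. -/
lemma exists_conj_central {G : Type*} [Group G] [Finite G] {p : ℕ} [Fact p.Prime] (U : Subgroup G)
    (hU : IsPGroup p U) (hi : ¬ p ∣ U.index) (β : G ≃* G) :
    ∃ t : G, ∀ y ∈ U, (∀ w ∈ U, y * w = w * y) →
      t⁻¹ * β y * t ∈ U ∧ ∀ w ∈ U, (t⁻¹ * β y * t) * w = w * (t⁻¹ * β y * t) := by
  let S : Sylow p G := hU.toSylow hi
  have hS : ∀ y, y ∈ S ↔ y ∈ U := fun y => by simp [S]
  obtain ⟨t, ht⟩ := MulAction.exists_smul_eq G S (β • S)
  have hkey : ∀ y, β.symm y ∈ U ↔ t⁻¹ * y * t ∈ U := by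
    intro y
    have e1 : y ∈ ((β • S : Sylow p _) : Subgroup _) ↔ β.symm y ∈ U := by
      rw [Sylow.pointwise_smul_def, Subgroup.mem_pointwise_smul_iff_inv_smul_mem, ← hS]
      rfl
    have e2 : y ∈ ((t • S : Sylow p _) : Subgroup _) ↔ t⁻¹ * y * t ∈ U := by
      rw [Sylow.coe_subgroup_smul, Subgroup.mem_pointwise_smul_iff_inv_smul_mem, ← hS]
      have : (MulAut.conj t)⁻¹ • y = t⁻¹ * y * t := by
        rw [← map_inv, MulAut.smul_def, MulAut.conj_apply, inv_inv]
      rw [this]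
      rfl
    rw [← e1, ← e2, ht]
  refine ⟨t, fun y hy hc => ?_⟩
  refine ⟨?_, fun w hw => ?_⟩
  · rw [← hkey]
    simpa using hy
  · have h3 : β.symm (t * w * t⁻¹) ∈ U := by
      rw [hkey]
      have : t⁻¹ * (t * w * t⁻¹) * t = w := by group
      rwa [this]
    generalize hw' : β.symm (t * w * t⁻¹) = w' at h3
    have hw'' : β w' = t * w * t⁻¹ := by rw [← hw', MulEquiv.apply_symm_apply]
    have h4 := hc _ h3
    have h5 := congrArg β h4
    rw [map_mul, map_mul, hw''] at h5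
    have h6 : t⁻¹ * β y * t * w = t⁻¹ * (β y * (t * w * t⁻¹)) * t := by group
    have h7 : w * (t⁻¹ * β y * t) = t⁻¹ * ((t * w * t⁻¹) * β y) * t := by group
    rw [h6, h7, h5]

lemma diag_mul {g h : Matrix (Fin m ⊕ Fin m) (Fin m ⊕ Fin m) F} (hg : Shape g) (hh : Shape h) (i : Fin m) :
    (g * h) (Sum.inl i) (Sum.inl i) = g (Sum.inl i) (Sum.inl i) * h (Sum.inl i) (Sum.inl i) := by
  rw [Matrix.mul_apply, Fintype.sum_sum_type, Finset.sum_eq_single i, Finset.sum_eq_zero, add_zero]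
  · intro j _
    rw [hh.1 j i, mul_zero]
  · intro j _ hj
    rcases lt_or_gt_of_ne hj with hlt | hgt
    · rw [hg.2 i j hlt, zero_mul]
    · rw [hh.2 j i hgt, mul_zero]
  · simp

lemma shape_of_mem {g : symplecticGroup (Fin m) F} (hg : g ∈ Bor m F) : Shape g.1 := (mem_Bor_iff g).1 hg

lemma diag_ne (g : ↥(Bor m F)) (i : Fin m) : g.1.1 (Sum.inl i) (Sum.inl i) ≠ 0 := by
  intro h0
  have h1 : (g * g⁻¹).1.1 (Sum.inl i) (Sum.inl i) = g.1.1 (Sum.inl i) (Sum.inl i) * (g⁻¹).1.1 (Sum.inl i) (Sum.inl i) :=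
    diag_mul (shape_of_mem g.2) (shape_of_mem (g⁻¹).2) i
  rw [mul_inv_cancel, h0, zero_mul] at h1
  have h2 : ((1 : ↥(Bor m F))).1.1 (Sum.inl i) (Sum.inl i) = 1 := by
    change (1 : Matrix (Fin m ⊕ Fin m) (Fin m ⊕ Fin m) F) (Sum.inl i) (Sum.inl i) = 1
    simp
  rw [h2] at h1
  exact one_ne_zero h1

/-- The diagonal character of the Borel subgroup. -/
noncomputable def diagHom (m : ℕ) (F : Type*) [Field F] : ↥(Bor m F) →* (Fin m → Fˣ) :=
  MonoidHom.mk' (fun g i => Units.mk0 _ (diag_ne g i)) (by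
    intro g h
    funext i
    apply Units.ext
    exact diag_mul (shape_of_mem g.2) (shape_of_mem h.2) i)

/-- The unipotent radical of the Borel subgroup. -/
noncomputable def Uni (m : ℕ) (F : Type*) [Field F] : Subgroup (symplecticGroup (Fin m) F) :=
  (diagHom m F).ker.map (Bor m F).subtype

lemma mem_Uni {g : symplecticGroup (Fin m) F} :
    g ∈ Uni m F ↔ Shape g.1 ∧ ∀ i, g.1 (Sum.inl i) (Sum.inl i) = 1 := by
  constructor
  · rintro ⟨x, hx, rfl⟩
    refine ⟨shape_of_mem x.2, fun i => ?_⟩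
    have h1 := congrFun (MonoidHom.mem_ker.mp hx) i
    exact congrArg Units.val h1
  · rintro ⟨h1, h2⟩
    refine ⟨⟨g, (mem_Bor_iff g).2 h1⟩, ?_, rfl⟩
    apply MonoidHom.mem_ker.mpr
    funext i
    apply Units.ext
    exact h2 i

lemma diagHom_surjective : Function.Surjective (diagHom m F) := by
  classical
  intro t
  let A : Matrix (Fin m) (Fin m) F := Matrix.diagonal (fun i => (t i : F))
  let D : Matrix (Fin m) (Fin m) F := Matrix.diagonal (fun i => ((t i)⁻¹ : F))
  have hAD : A * D = 1 := by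
    simp only [A, D, Matrix.diagonal_mul_diagonal]
    rw [← Matrix.diagonal_one]
    congr 1
    funext i
    exact mul_inv_cancel₀ (t i).ne_zero
  have hm1 : fromBlocks A 0 0 D ∈ symplecticGroup (Fin m) F := by
    rw [sp_blocks]
    refine ⟨?_, ?_, by simp⟩
    · simp only [A, Matrix.diagonal_transpose]
      exact hAD
    · simp only [D, Matrix.diagonal_transpose]
      rw [Matrix.diagonal_mul_diagonal, ← Matrix.diagonal_one]
      congr 1
      funext i
      exact inv_mul_cancel₀ (t i).ne_zero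
  have hsh : Shape (fromBlocks A 0 0 D) := by
    refine ⟨fun i j => rfl, fun i j hij => ?_⟩
    change A i j = 0
    exact Matrix.diagonal_apply_ne _ (ne_of_gt hij)
  refine ⟨⟨⟨_, hm1⟩, (mem_Bor_iff _).2 hsh⟩, ?_⟩
  funext i
  apply Units.ext
  change A i i = _
  simp [A]

lemma card_Uni [Fintype F] {q : ℕ} (hF : Fintype.card F = q) : Nat.card ↥(Uni m F) = q ^ (m ^ 2) := by
  classical
  have hq : 2 ≤ q := by rw [← hF]; exact Fintype.one_lt_card
  rw [Uni, Subgroup.card_map_of_injective (Subgroup.subtype_injective _)]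
  have h1 := Subgroup.card_mul_index (diagHom m F).ker
  rw [Subgroup.index_ker, MonoidHom.range_eq_top.mpr diagHom_surjective, Subgroup.card_top, card_Bor hF m] at h1
  have h2 : Nat.card (Fin m → Fˣ) = (q - 1) ^ m := by
    rw [Nat.card_fun, Nat.card_eq_fintype_card, Fintype.card_units, hF]
    simp
  rw [h2] at h1
  have hpos : 0 < (q - 1) ^ m := pow_pos (by omega) _
  exact Nat.eq_of_mul_eq_mul_right hpos h1

/-- The image of the unipotent radical in `PSp`. -/
noncomputable def UniBar (m : ℕ) (F : Type*) [Field F] : Subgroup (Cfsg.PSp m F) :=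
  (Uni m F).map (QuotientGroup.mk' _)

lemma mem_UniBar {x : Cfsg.PSp m F} :
    x ∈ UniBar m F ↔ ∃ s ∈ Uni m F, (QuotientGroup.mk s : Cfsg.PSp m F) = x := by
  simp only [UniBar, Subgroup.mem_map]
  rfl

/-- The element `-1` lies in the unipotent radical only in characteristic two. -/
lemma eq_one_of_mem_Uni_center (hm : 1 ≤ m) {g : symplecticGroup (Fin m) F} (h1 : g ∈ Uni m F)
    (h2 : g ∈ Subgroup.center (symplecticGroup (Fin m) F)) : g = 1 := by
  have : Nonempty (Fin m) := ⟨⟨0, hm⟩⟩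
  rcases Cfsg.Agent.Lib.SpCenter.mem_center_iff.mp h2 with h | h
  · exact h
  · subst h
    have h3 := (mem_Uni.mp h1).2 ⟨0, hm⟩
    have h4 : (-1 : F) = 1 := by
      change (-1 : Matrix (Fin m ⊕ Fin m) (Fin m ⊕ Fin m) F) (Sum.inl ⟨0, hm⟩) (Sum.inl ⟨0, hm⟩) = 1 at h3
      simpa using h3
    apply Subtype.ext
    change (-1 : Matrix (Fin m ⊕ Fin m) (Fin m ⊕ Fin m) F) = 1
    ext i j
    by_cases hij : i = j
    · subst hij
      simp [h4]
    · simp [Matrix.one_apply_ne hij]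

lemma card_UniBar (hm : 1 ≤ m) : Nat.card (UniBar m F) = Nat.card (Uni m F) := by
  symm
  apply Nat.card_congr
  refine Equiv.ofBijective (fun s => ⟨QuotientGroup.mk s.1, mem_UniBar.mpr ⟨s.1, s.2, rfl⟩⟩) ⟨?_, ?_⟩
  · intro s t h
    have h1 := congrArg Subtype.val h
    have h2 := QuotientGroup.eq.mp h1
    have h3 : s.1⁻¹ * t.1 ∈ Uni m F := mul_mem (inv_mem s.2) t.2
    have h4 := eq_one_of_mem_Uni_center hm h3 h2
    apply Subtype.ext
    exact inv_mul_eq_one.mp h4
  · rintro ⟨x, hx⟩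
    obtain ⟨s, hs, rfl⟩ := mem_UniBar.mp hx
    exact ⟨⟨s, hs⟩, rfl⟩

lemma isPGroup_UniBar [Fintype F] {p f : ℕ} [Fact p.Prime] (hF : Fintype.card F = p ^ f) (hm : 1 ≤ m) :
    IsPGroup p (UniBar m F) := by
  apply IsPGroup.of_card (n := f * m ^ 2)
  rw [card_UniBar hm, card_Uni hF, pow_mul]

lemma not_dvd_index_UniBar [Fintype F] {p f : ℕ} (hp : p.Prime) (hf : 1 ≤ f) (hF : Fintype.card F = p ^ f)
    (hm : 1 ≤ m) : ¬ p ∣ (UniBar m F).index := by
  classical
  set q := Fintype.card F with hq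
  have hq2 : 2 ≤ q := Fintype.one_lt_card
  have c1 := Cfsg.Agent.Lib.SpOrder.card_Sp (F := F) m
  have c3 : Nat.card (symplecticGroup (Fin m) F) = Nat.card (Cfsg.PSp m F) *
      Nat.card (Subgroup.center (symplecticGroup (Fin m) F)) :=
    Subgroup.card_eq_card_quotient_mul_card_subgroup _
  have c4 := Subgroup.card_mul_index (UniBar m F)
  have c5 := card_UniBar (m := m) (F := F) hm
  have c6 := card_Uni (m := m) (F := F) (q := q) rfl
  have hqN : 0 < q ^ (m ^ 2) := pow_pos (by omega) _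
  have c7 : ∏ i ∈ Finset.range m, (q ^ (2 * (i + 1)) - 1) =
      (UniBar m F).index * Nat.card (Subgroup.center (symplecticGroup (Fin m) F)) := by
    apply Nat.eq_of_mul_eq_mul_left hqN
    have e1 : Nat.card (Sp (Fin m) F) = q ^ (m ^ 2) * ∏ i ∈ Finset.range m, (q ^ (2 * (i + 1)) - 1) := c1
    rw [← e1]
    change Nat.card (symplecticGroup (Fin m) F) = _
    rw [c3, ← c4, c5, c6]
    ring
  intro hd
  have h1 : p ∣ ∏ i ∈ Finset.range m, (q ^ (2 * (i + 1)) - 1) := by
    rw [c7]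
    exact Dvd.dvd.mul_right hd _
  obtain ⟨i, -, hi⟩ := (Prime.dvd_finsetProd_iff hp.prime _).mp h1
  have hpq : p ∣ q ^ (2 * (i + 1)) := by
    apply dvd_pow _ (by omega)
    change p ∣ q
    rw [hF]
    exact dvd_pow_self p (by omega)
  have hpos : 1 ≤ q ^ (2 * (i + 1)) := Nat.one_le_pow _ _ (by omega)
  have h2 : p ∣ 1 := by
    have := Nat.dvd_sub hpq hi
    rwa [Nat.sub_sub_self hpos] at this
  exact hp.one_lt.ne' (Nat.dvd_one.mp h2)

/-! ### Elements of `Uni` -/

lemma eL_inr (j i : Fin m) : (eL j : Fin m ⊕ Fin m → F) (Sum.inr i) = 0 :=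
  Pi.single_eq_of_ne (fun h => by cases h) _

lemma eR_inl (j i : Fin m) : (eR j : Fin m ⊕ Fin m → F) (Sum.inl i) = 0 :=
  Pi.single_eq_of_ne (fun h => by cases h) _

lemma eL_inl_ne {i j : Fin m} (h : i ≠ j) : (eL j : Fin m ⊕ Fin m → F) (Sum.inl i) = 0 :=
  Pi.single_eq_of_ne (fun h0 => h (Sum.inl.inj h0)) _

lemma eR_inr_ne {i j : Fin m} (h : i ≠ j) : (eR j : Fin m ⊕ Fin m → F) (Sum.inr i) = 0 :=
  Pi.single_eq_of_ne (fun h0 => h (Sum.inr.inj h0)) _

lemma eL_inl_same (j : Fin m) : (eL j : Fin m ⊕ Fin m → F) (Sum.inl j) = 1 := Pi.single_eq_same _ _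

lemma eR_inr_same (j : Fin m) : (eR j : Fin m ⊕ Fin m → F) (Sum.inr j) = 1 := Pi.single_eq_same _ _

lemma col_of_fix {g : symplecticGroup (Fin m) F} {j : Fin m} (h : g • (eL j : Fin m ⊕ Fin m → F) = eL j)
    (k : Fin m ⊕ Fin m) : g.1 k (Sum.inl j) = (eL j : Fin m ⊕ Fin m → F) k := by
  have h1 : g.1 *ᵥ (eL j : Fin m ⊕ Fin m → F) = eL j := h
  have h2 := congrFun h1 k
  rwa [Matrix.mulVec_single_one] at h2

lemma mem_Uni_of_fix {g : symplecticGroup (Fin m) F} (h : ∀ j, g • (eL j : Fin m ⊕ Fin m → F) = eL j) :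
    g ∈ Uni m F := by
  rw [mem_Uni]
  refine ⟨⟨fun i j => ?_, fun i j hij => ?_⟩, fun i => ?_⟩
  · rw [col_of_fix (h j)]
    exact eL_inr _ _
  · rw [col_of_fix (h j)]
    exact eL_inl_ne (ne_of_gt hij)
  · rw [col_of_fix (h i)]
    exact eL_inl_same _

lemma T_mem_Uni {v : Fin m ⊕ Fin m → F} (hv : ∀ i, v (Sum.inr i) = 0) (c : F) : T v c ∈ Uni m F := by
  apply mem_Uni_of_fix
  intro j
  rw [T_smul, ω_eL_right, hv, mul_zero, zero_smul, add_zero]

lemma fix_of_mem_Uni (hm : 1 ≤ m) {z : symplecticGroup (Fin m) F} (hz : z ∈ Uni m F) :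
    z • (eL ⟨0, hm⟩ : Fin m ⊕ Fin m → F) = eL ⟨0, hm⟩ := by
  obtain ⟨hs, hd⟩ := mem_Uni.mp hz
  change z.1 *ᵥ (eL ⟨0, hm⟩ : Fin m ⊕ Fin m → F) = eL ⟨0, hm⟩
  rw [Matrix.mulVec_single_one]
  ext k
  rcases k with k | k
  · by_cases hk : k = ⟨0, hm⟩
    · subst hk
      simp [Matrix.col, hd]
    · have h1 : (⟨0, hm⟩ : Fin m) < k := by
        rw [Fin.lt_def]
        have : (k : ℕ) ≠ 0 := fun h => hk (Fin.ext h)
        simp only
        omega
      change z.1 (Sum.inl k) (Sum.inl ⟨0, hm⟩) = (eL ⟨0, hm⟩ : Fin m ⊕ Fin m → F) (Sum.inl k)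
      rw [hs.2 k _ h1]
      exact (eL_inl_ne hk).symm
  · change z.1 (Sum.inr k) (Sum.inl ⟨0, hm⟩) = (eL ⟨0, hm⟩ : Fin m ⊕ Fin m → F) (Sum.inr k)
    rw [hs.1 k _]
    exact (eL_inr _ _).symm

/-- The root group of the first basis vector is central in `Uni`. -/
lemma T_comm_Uni (hm : 1 ≤ m) (c : F) {z : symplecticGroup (Fin m) F} (hz : z ∈ Uni m F) :
    T (eL ⟨0, hm⟩ : Fin m ⊕ Fin m → F) c * z = z * T (eL ⟨0, hm⟩ : Fin m ⊕ Fin m → F) c := by
  have h1 := T_conj z (eL ⟨0, hm⟩ : Fin m ⊕ Fin m → F) c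
  rw [fix_of_mem_Uni hm hz] at h1
  calc T (eL ⟨0, hm⟩ : Fin m ⊕ Fin m → F) c * z
      = (z * T (eL ⟨0, hm⟩ : Fin m ⊕ Fin m → F) c * z⁻¹) * z := by rw [h1]
    _ = _ := by group

/-- Equal transvections have proportional vectors. -/
lemma T_eq_T {u v : Fin m ⊕ Fin m → F} {c d : F} (hd : d ≠ 0) (hv : v ≠ 0) (h : T u c = T v d) :
    ∃ l : F, l ≠ 0 ∧ u = l • v ∧ c * l ^ 2 = d := by
  obtain ⟨x, hx⟩ := exists_ω_ne_zero hv
  have key : ∀ y, (c * ω u y) • u = (d * ω v y) • v := by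
    intro y
    have h1 : T u c • y = T v d • y := by rw [h]
    rw [T_smul, T_smul] at h1
    exact add_left_cancel h1
  have hne : (d * ω v x) ≠ 0 := mul_ne_zero hd hx
  have hr : (c * ω u x) ≠ 0 := by
    intro h0
    have h1 := key x
    rw [h0, zero_smul] at h1
    exact (smul_ne_zero hne hv) h1.symm
  set l := (c * ω u x)⁻¹ * (d * ω v x) with hl
  have hl0 : l ≠ 0 := mul_ne_zero (inv_ne_zero hr) hne
  have hu : u = l • v := by
    rw [hl, mul_smul, ← key x, smul_smul, inv_mul_cancel₀ hr, one_smul]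
  refine ⟨l, hl0, hu, ?_⟩
  have h1 := key x
  rw [hu, ω_smul_left, smul_smul] at h1
  have h2 : (c * (l * ω v x) * l - d * ω v x) • v = 0 := by
    rw [sub_smul, h1, sub_self]
  have h3 := (smul_eq_zero.mp h2).resolve_right hv
  have h4 : (c * l ^ 2 - d) * ω v x = 0 := by linear_combination h3
  exact sub_eq_zero.mp ((mul_eq_zero.mp h4).resolve_right hx)

/-- The Levi elements. -/
noncomputable def levi {i j : Fin m} (hij : i < j) : symplecticGroup (Fin m) F :=
  ⟨fromBlocks (1 + Matrix.single i j 1) 0 0 (1 - Matrix.single j i 1), by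
    have hne : i ≠ j := ne_of_lt hij
    rw [sp_blocks]
    refine ⟨?_, ?_, by simp⟩
    · rw [transpose_add, transpose_one, Matrix.transpose_single, add_mul, mul_sub, mul_sub, one_mul, mul_one,
        one_mul, Matrix.single_mul_single_of_ne (1 : F) j i j hne]
      simp
    · rw [transpose_sub, transpose_one, Matrix.transpose_single, sub_mul, mul_add, mul_add, one_mul, mul_one,
        one_mul, Matrix.single_mul_single_of_ne (1 : F) i j i hne.symm]
      simp⟩

lemma levi_mem_Uni {i j : Fin m} (hij : i < j) : levi (F := F) hij ∈ Uni m F := by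
  rw [mem_Uni]
  refine ⟨⟨fun a b => rfl, fun a b hab => ?_⟩, fun a => ?_⟩
  · change (1 + Matrix.single i j (1 : F)) a b = 0
    rw [Matrix.add_apply, Matrix.one_apply_ne (ne_of_gt hab), zero_add]
    rw [Matrix.single_apply_of_ne]
    rintro ⟨rfl, rfl⟩
    exact absurd hij (not_lt.mpr hab.le)
  · change (1 + Matrix.single i j (1 : F)) a a = 1
    rw [Matrix.add_apply, Matrix.one_apply_eq, Matrix.single_apply_of_ne, add_zero]
    rintro ⟨rfl, rfl⟩
    exact lt_irrefl _ hij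

/-- The shape of central elements of `Uni`. -/
theorem central_form (hm : 2 ≤ m) {z : symplecticGroup (Fin m) F} (hz : z ∈ Uni m F)
    (hc : ∀ w ∈ Uni m F, z * w = w * z) :
    ∃ a b : F, 2 * b = 0 ∧ ∀ x : Fin m ⊕ Fin m → F, z • x =
      x + (a * ω (eL ⟨0, by omega⟩ : Fin m ⊕ Fin m → F) x) • (eL ⟨0, by omega⟩ : Fin m ⊕ Fin m → F) +
        b • (ω (eL ⟨0, by omega⟩ : Fin m ⊕ Fin m → F) x • (eL ⟨1, by omega⟩ : Fin m ⊕ Fin m → F) +
          ω (eL ⟨1, by omega⟩ : Fin m ⊕ Fin m → F) x • (eL ⟨0, by omega⟩ : Fin m ⊕ Fin m → F)) := by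
  classical
  -- step 1 : `z` fixes the basis vectors
  have hfix : ∀ j, z • (eL j : Fin m ⊕ Fin m → F) = eL j := by
    intro j
    have hT := T_mem_Uni (v := (eL j : Fin m ⊕ Fin m → F)) (fun i => eL_inr _ _) (1 : F)
    have h1 := T_conj z (eL j : Fin m ⊕ Fin m → F) (1 : F)
    rw [hc _ hT] at h1
    have h2 : T (eL j : Fin m ⊕ Fin m → F) (1 : F) * z * z⁻¹ = T (eL j : Fin m ⊕ Fin m → F) (1 : F) := by group
    rw [h2] at h1
    have hu' : T (z • (eL j : Fin m ⊕ Fin m → F)) (1 : F) = T (eL j) 1 := h1.symm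
    obtain ⟨l', hl', hu2, hl2'⟩ := T_eq_T (one_ne_zero) eL_ne hu'
    have h3 : (z • (eL j : Fin m ⊕ Fin m → F)) (Sum.inl j) = 1 := by
      change (z.1 *ᵥ (eL j : Fin m ⊕ Fin m → F)) (Sum.inl j) = 1
      rw [Matrix.mulVec_single_one]
      exact (mem_Uni.mp hz).2 j
    rw [hu2] at h3
    have h4 : l' = 1 := by
      simpa using h3
    rw [hu2, h4, one_smul]
  -- step 2 : block form
  set B : Matrix (Fin m) (Fin m) F := z.1.toBlocks₁₂ with hB
  set D : Matrix (Fin m) (Fin m) F := z.1.toBlocks₂₂ with hD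
  have hA : z.1.toBlocks₁₁ = 1 := by
    ext i j
    change z.1 (Sum.inl i) (Sum.inl j) = _
    rw [col_of_fix (hfix j), Matrix.one_apply]
    simp [Pi.single_apply]
  have hC : z.1.toBlocks₂₁ = 0 := by
    ext i j
    change z.1 (Sum.inr i) (Sum.inl j) = _
    rw [col_of_fix (hfix j)]
    exact eL_inr _ _
  have hz1 : z.1 = fromBlocks 1 B 0 D := by
    rw [← hA, ← hC, Matrix.fromBlocks_toBlocks]
  have hsp := (sp_blocks (1 : Matrix (Fin m) (Fin m) F) B D).mp (by rw [← hz1]; exact z.2)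
  have hD1 : D = 1 := by
    have := hsp.1
    rwa [transpose_one, one_mul] at this
  have hBs : ∀ i j, B i j = B j i := by
    intro i j
    have h1 := hsp.2.2
    rw [hD1, transpose_one, one_mul, mul_one] at h1
    exact (congrFun (congrFun h1 i) j)
  have hz2 : z.1 = fromBlocks 1 B 0 1 := by rw [hz1, hD1]
  -- step 3 : commutation with the Levi elements
  have hlev : ∀ {i j : Fin m}, i < j → ∀ k l, (if k = i then B j l else 0) + (if l = i then B k j else 0) = 0 := by
    intro i j hij k l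
    have h1 := hc _ (levi_mem_Uni (F := F) hij)
    have h2 := congrArg Subtype.val h1
    change z.1 * (levi (F := F) hij).1 = (levi (F := F) hij).1 * z.1 at h2
    rw [hz2] at h2
    change fromBlocks 1 B 0 1 * fromBlocks (1 + Matrix.single i j 1) 0 0 (1 - Matrix.single j i 1) =
      fromBlocks (1 + Matrix.single i j 1) 0 0 (1 - Matrix.single j i 1) * fromBlocks 1 B 0 1 at h2
    rw [fromBlocks_multiply, fromBlocks_multiply] at h2
    obtain ⟨-, h3, -, -⟩ := Matrix.fromBlocks_inj.mp h2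
    simp only [mul_zero, zero_add, add_zero, one_mul, mul_one, zero_mul] at h3
    rw [mul_sub, add_mul, mul_one, one_mul] at h3
    have h4 : (B * Matrix.single j i (1 : F)) k l = if l = i then B k j else 0 := by
      split_ifs with hl
      · subst hl
        rw [Matrix.mul_single_apply_same, mul_one]
      · rw [Matrix.mul_single_apply_of_ne _ _ _ _ _ hl]
    have h5 : (Matrix.single i j (1 : F) * B) k l = if k = i then B j l else 0 := by
      split_ifs with hl
      · subst hl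
        rw [Matrix.single_mul_apply_same, one_mul]
      · rw [Matrix.single_mul_apply_of_ne _ _ _ _ _ hl]
    have h6 := congrFun (congrFun h3 k) l
    simp only [Matrix.sub_apply, Matrix.add_apply] at h6
    rw [h4, h5] at h6
    linear_combination -h6
  set i₀ : Fin m := ⟨0, by omega⟩ with hi₀
  set i₁ : Fin m := ⟨1, by omega⟩ with hi₁
  have h01 : i₀ < i₁ := by
    rw [Fin.lt_def]
    simp [hi₀, hi₁]
  have hne01 : i₀ ≠ i₁ := ne_of_lt h01
  -- vanishing of the entries
  have hv1 : ∀ j l, j ≠ i₀ → l ≠ i₀ → B j l = 0 := by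
    intro j l hj hl
    have hij : i₀ < j := by
      rw [Fin.lt_def]
      have : (j : ℕ) ≠ 0 := fun h => hj (Fin.ext h)
      simp only [hi₀]
      omega
    have := hlev hij i₀ l
    simpa [hl] using this
  have hv2 : ∀ j, j ≠ i₀ → j ≠ i₁ → B j i₀ = 0 := by
    intro j hj0 hj1
    have hij : i₁ < j := by
      rw [Fin.lt_def]
      have h1 : (j : ℕ) ≠ 0 := fun h => hj0 (Fin.ext h)
      have h2 : (j : ℕ) ≠ 1 := fun h => hj1 (Fin.ext h)
      simp only [hi₁]
      omega
    have := hlev hij i₁ i₀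
    simpa [hne01] using this
  have h2b : 2 * B i₀ i₁ = 0 := by
    have := hlev h01 i₀ i₀
    simp only [if_true] at this
    rw [hBs i₁ i₀] at this
    linear_combination this
  refine ⟨- B i₀ i₀, - B i₀ i₁, by linear_combination - h2b, fun x => ?_⟩
  have hω : ∀ i, ω (eL i : Fin m ⊕ Fin m → F) x = - x (Sum.inr i) := by
    intro i
    rw [ω_comm, ω_eL_right]
  rw [hω, hω]
  have hsum : ∀ k, ∑ l, B k l * x (Sum.inr l) =
      (if k = i₀ then B i₀ i₀ * x (Sum.inr i₀) + B i₀ i₁ * x (Sum.inr i₁) else 0) +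
      (if k = i₁ then B i₀ i₁ * x (Sum.inr i₀) else 0) := by
    intro k
    by_cases hk0 : k = i₀
    · subst hk0
      rw [if_pos rfl, if_neg hne01, add_zero, ← Finset.add_sum_erase _ _ (Finset.mem_univ i₀),
        ← Finset.add_sum_erase _ _ (Finset.mem_erase.mpr ⟨hne01.symm, Finset.mem_univ i₁⟩)]
      rw [Finset.sum_eq_zero, add_zero]
      intro l hl
      have hl1 : l ≠ i₁ := (Finset.mem_erase.mp hl).1
      have hl0 : l ≠ i₀ := (Finset.mem_erase.mp (Finset.mem_erase.mp hl).2).1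
      rw [hBs, hv2 l hl0 hl1, zero_mul]
    · rw [if_neg hk0]
      by_cases hk1 : k = i₁
      · subst hk1
        rw [if_pos rfl, zero_add, Finset.sum_eq_single i₀]
        · rw [hBs]
        · intro l _ hl
          rw [hv1 _ l hk0 hl, zero_mul]
        · simp
      · rw [if_neg hk1, add_zero]
        apply Finset.sum_eq_zero
        intro l _
        by_cases hl : l = i₀
        · rw [hl, hv2 k hk0 hk1, zero_mul]
        · rw [hv1 k l hk0 hl, zero_mul]
  change z.1 *ᵥ x = _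
  rw [hz2]
  ext k
  rcases k with k | k
  · have h1 : (fromBlocks (1 : Matrix (Fin m) (Fin m) F) B (0 : Matrix (Fin m) (Fin m) F) 1 *ᵥ x) (Sum.inl k) =
        x (Sum.inl k) + ∑ l, B k l * x (Sum.inr l) := by
      simp only [Matrix.mulVec, dotProduct, Fintype.sum_sum_type, fromBlocks_apply₁₁, fromBlocks_apply₁₂]
      congr 1
      rw [Finset.sum_eq_single k]
      · simp
      · intro l _ hl
        rw [Matrix.one_apply_ne hl.symm, zero_mul]
      · simp
    rw [h1, hsum]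
    simp only [Pi.add_apply, Pi.smul_apply, smul_eq_mul]
    by_cases hk0 : k = i₀
    · subst hk0
      rw [eL_inl_same, eL_inl_ne hne01, if_pos rfl, if_neg hne01]
      ring
    · rw [eL_inl_ne hk0, if_neg hk0]
      by_cases hk1 : k = i₁
      · subst hk1
        rw [eL_inl_same, if_pos rfl]
        ring
      · rw [eL_inl_ne hk1, if_neg hk1]
        ring
  · have h1 : (fromBlocks (1 : Matrix (Fin m) (Fin m) F) B (0 : Matrix (Fin m) (Fin m) F) 1 *ᵥ x) (Sum.inr k) = x (Sum.inr k) := by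
      simp only [Matrix.mulVec, dotProduct, Fintype.sum_sum_type, fromBlocks_apply₂₁, fromBlocks_apply₂₂]
      rw [Finset.sum_eq_zero (fun l _ => by simp), zero_add, Finset.sum_eq_single k]
      · simp
      · intro l _ hl
        rw [Matrix.one_apply_ne hl.symm, zero_mul]
      · simp
    rw [h1]
    simp only [Pi.add_apply, Pi.smul_apply, smul_eq_mul, eL_inr]
    ring

end Cfsg.Agent.Lib.AutPSp
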